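import Groth.Agent.GrLC.K762.Tower
import Groth.Agent.GrSegre.K962.Dims
import Groth.Agent.GrSyz.K860.Basic
import Groth.Agent.Flat2H.SmoothSection

/-!
# Graded local cohomology of `k[X_1, …, X_n](a)`
-/

set_option autoImplicit false
set_option linter.unusedSectionVars false
set_option linter.style.haveILetI false
universe u
open scoped TensorProduct DirectSum
open RingTheory.Sequence
attribute [local instance] MvPolynomial.weightedGradedAlgebra

namespace K963.PolyLC

open K962.Dims GrLC K963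

section MapProj

variable {ι : Type} [AddCommGroup ι] [DecidableEq ι] {M : Type u} [AddCommGroup M] {τ : Type u} [SetLike τ M]
  [AddSubgroupClass τ M] (ℳ : ι → τ) [DirectSum.Decomposition ℳ]
  {N : Type u} [AddCommGroup N] {τ' : Type u} [SetLike τ' N]
  [AddSubgroupClass τ' N] (𝒩 : ι → τ') [DirectSum.Decomposition 𝒩]

lemma map_proj_deg {F : Type*} [FunLike F M N] [AddMonoidHomClass F M N] (e : ι) (f : F)
    (hf : ∀ g x, x ∈ ℳ g → f x ∈ 𝒩 (g + e)) (g : ι) (x : M) :
    f (Dec.proj ℳ g x) = Dec.proj 𝒩 (g + e) (f x) := by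
  obtain ⟨s, hs, hx⟩ := Dec.sum_proj ℳ x
  conv_rhs => rw [hx]
  rw [map_sum, map_sum]
  by_cases hg : g ∈ s
  · rw [Finset.sum_eq_single g]
    · exact (Dec.proj_of_mem 𝒩 (hf g _ (Dec.proj_mem ℳ g x))).symm
    · intro h _ hh
      exact Dec.proj_of_mem_ne 𝒩 (hf h _ (Dec.proj_mem ℳ h x)) (fun e => hh (add_right_cancel e))
    · intro h; exact absurd hg h
  · rw [Finset.sum_eq_zero, hs g hg, map_zero]
    intro h hh
    exact Dec.proj_of_mem_ne 𝒩 (hf h _ (Dec.proj_mem ℳ h x)) (fun e => hg (add_right_cancel e ▸ hh))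

end MapProj

variable (k : Type u) [Field k] (n : ℕ)

/-- the standard grading -/
abbrev std : ℤ → Submodule k (MvPolynomial (Fin n) k) :=
  MvPolynomial.weightedHomogeneousSubmodule k (fun _ : Fin n => (1 : ℤ))

variable {k n}

theorem std_neg {d : ℤ} (hd : d < 0) : std k n d = ⊥ := K860.Basic.stdGr_neg hd

theorem X_mem (i : Fin n) : (MvPolynomial.X i : MvPolynomial (Fin n) k) ∈ std k n 1 := K860.Basic.X_mem i

theorem std_zero : std k n 0 = Submodule.span k {(1 : MvPolynomial (Fin n) k)} := by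
  ext p
  rw [Submodule.mem_span_singleton]
  constructor
  · intro hp
    refine ⟨MvPolynomial.constantCoeff p, ?_⟩
    rw [MvPolynomial.smul_eq_C_mul, mul_one]
    exact (K860.Basic.mem_stdGr_zero hp).symm
  · rintro ⟨c, rfl⟩
    exact Submodule.smul_mem _ _ (K860.Basic.one_mem' (k := k) (σ := Fin n))

theorem irr_eq_span : Ideal.span (⋃ d ∈ Set.Ioi (0 : ℤ), (std k n d : Set (MvPolynomial (Fin n) k))) =
    Ideal.span (Set.range (MvPolynomial.X : Fin n → MvPolynomial (Fin n) k)) := by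
  apply le_antisymm
  · rw [Ideal.span_le]
    intro p hp
    simp only [Set.mem_iUnion, Set.mem_Ioi, exists_prop] at hp
    obtain ⟨d, hd, hp⟩ := hp
    exact (K860.Basic.mem_span_X_iff p).2 (K860.Basic.constantCoeff_eq_zero hd.ne' hp)
  · rw [Ideal.span_le]
    rintro _ ⟨i, rfl⟩
    refine Ideal.subset_span ?_
    simp only [Set.mem_iUnion, Set.mem_Ioi, exists_prop]
    exact ⟨1, one_pos, X_mem i⟩

theorem exists_ne_zero (h : 0 < n) {d : ℤ} (hd : 0 ≤ d) : ∃ p ∈ std k n d, p ≠ 0 := by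
  obtain ⟨m, rfl⟩ := Int.eq_ofNat_of_zero_le hd
  refine ⟨MvPolynomial.X ⟨0, h⟩ ^ m, ?_, pow_ne_zero _ (MvPolynomial.X_ne_zero _)⟩
  have := SetLike.pow_mem_graded m (X_mem (k := k) (n := n) ⟨0, h⟩)
  simpa using this

theorem std_eq_bot_iff (h : 0 < n) (d : ℤ) : std k n d = ⊥ ↔ d < 0 := by
  constructor
  · intro hb
    by_contra hd
    obtain ⟨p, hp, hp0⟩ := exists_ne_zero (k := k) h (not_lt.1 hd)
    rw [hb] at hp
    exact hp0 ((Submodule.mem_bot k).1 hp)
  · exact std_neg

/-- **Local cohomology of `k[X_1, …, X_n](a)`.** -/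
theorem main (a : ℤ) (m : HomogeneousIdeal (std k n))
    (hm : m.toIdeal = Ideal.span (⋃ d ∈ Set.Ioi (0 : ℤ), (std k n d : Set (MvPolynomial (Fin n) k))))
    (E : StarInjRes (std k n) (sh (std k n) a)) :
    (∀ i, i ≠ n → Subsingleton (E.H m i)) ∧
      (0 < n → ∀ d, E.Hcomp m n d = ⊥ ↔ -(n : ℤ) < d + a) := by
  rw [irr_eq_span] at hm
  have hmtop : (Ideal.span (Set.range (MvPolynomial.X : Fin n → MvPolynomial (Fin n) k)) • ⊤ :
      Submodule (MvPolynomial (Fin n) k) (MvPolynomial (Fin n) k)) = m.toIdeal := by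
    rw [hm, smul_eq_mul, Ideal.mul_top]
  obtain ⟨h1, ψ, hk, hr, hg, hc⟩ := K762.Tower.tower m n (M := MvPolynomial (Fin n) k) (ℳ := sh (std k n) a)
    (MvPolynomial.X) (fun _ => (1 : ℤ)) (fun i => X_mem i) (fun i => by rw [hm]; exact Ideal.subset_span ⟨i, rfl⟩)
    (Groth.Agent.Flat2H.SmoothSection.isWeaklyRegular_X k n) (fun x => ⟨1, fun r hr => by
      rw [pow_one] at hr
      rw [hmtop, smul_eq_mul]
      exact Ideal.mul_mem_right _ _ hr⟩) E
  refine ⟨h1, fun hn => ?_⟩
  have hsum : ∑ _i : Fin n, (1 : ℤ) = n := by simp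
  rw [hsum] at hg
  rw [hmtop] at hk
  letI := Iface.Hdec E m n
  haveI := Iface.Hgsmul E m n
  -- homogeneous preimages
  have hpre : ∀ d, ∀ y ∈ E.Hgr m n d, (∀ i : Fin n, (MvPolynomial.X i : MvPolynomial (Fin n) k) • y = 0) →
      ∃ x ∈ sh (std k n) a (d + n), ψ x = y := by
    intro d y hy hy0
    obtain ⟨x, rfl⟩ := (hr y).2 hy0
    refine ⟨Dec.proj (sh (std k n) a) (d + n) x, Dec.proj_mem _ _ _, ?_⟩
    obtain ⟨s, hs, hx⟩ := Dec.sum_proj (sh (std k n) a) x
    have hmem : ∀ g, ψ (Dec.proj (sh (std k n) a) g x) ∈ E.Hgr m n (g - n) := fun g =>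
      hg g _ (Dec.proj_mem _ _ _)
    have h2 : ψ x = ∑ g ∈ s, ψ (Dec.proj (sh (std k n) a) g x) := by
      conv_lhs => rw [hx]
      rw [map_sum]
    have h3 := Dec.proj_of_mem (E.Hgr m n) hy
    rw [← h3]
    conv_rhs => rw [h2]
    rw [map_sum]
    by_cases hds : d + n ∈ s
    · rw [Finset.sum_eq_single (d + n)]
      · have h4 := hmem (d + n)
        rw [add_sub_cancel_right] at h4
        exact (Dec.proj_of_mem (E.Hgr m n) h4).symm
      · intro g _ hgne
        exact Dec.proj_of_mem_ne (E.Hgr m n) (hmem g) (fun h => hgne (by omega))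
      · intro h; exact absurd hds h
    · rw [hs _ hds, map_zero]
      symm
      refine Finset.sum_eq_zero fun g hgs => ?_
      exact Dec.proj_of_mem_ne (E.Hgr m n) (hmem g) (fun h => hds (by
        have : g = d + n := by omega
        rwa [this] at hgs))
  intro d
  constructor
  · intro hb
    by_contra hd
    rw [not_lt] at hd
    obtain ⟨j, hj⟩ : ∃ j : ℕ, d = -(n : ℤ) - a - j := ⟨(-(n : ℤ) - a - d).toNat, by omega⟩
    have key : ∀ j : ℕ, ∃ y ∈ E.Hgr m n (-(n : ℤ) - a - j), y ≠ 0 := by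
      intro j
      induction j with
      | zero =>
        refine ⟨ψ 1, ?_, fun h0 => ?_⟩
        · have := hg (-a) 1 (show (1 : MvPolynomial (Fin n) k) ∈ std k n (-a + a) by
            rw [neg_add_cancel]; exact K860.Basic.one_mem')
          rw [show (-(n : ℤ) - a - (0 : ℕ)) = -a - n by push_cast; ring]
          exact this
        · have h2 : (1 : MvPolynomial (Fin n) k) ∈ LinearMap.ker ψ := LinearMap.mem_ker.2 h0
          rw [hk, hm] at h2
          have := (K860.Basic.mem_span_X_iff _).1 h2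
          simp at this
      | succ j ih =>
        obtain ⟨y, hy, hy0⟩ := ih
        obtain ⟨z, -, hz⟩ := hc ⟨0, hn⟩ y (fun j hj => absurd hj (not_lt.2 (Nat.zero_le j.1 : (⟨0, hn⟩ : Fin n) ≤ j)))
        refine ⟨Dec.proj (E.Hgr m n) (-(n : ℤ) - a - (j + 1 : ℕ)) z, Dec.proj_mem _ _ _, fun h0 => hy0 ?_⟩
        have h2 := map_proj_deg (E.Hgr m n) (E.Hgr m n) (1 : ℤ)
          (LinearMap.lsmul (MvPolynomial (Fin n) k) (E.H m n) (MvPolynomial.X ⟨0, hn⟩))
          (fun g x hx => by
            have := (Iface.Hgsmul E m n).smul_mem (X_mem (k := k) (n := n) ⟨0, hn⟩) hx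
            rw [vadd_eq_add, add_comm] at this
            exact this) (-(n : ℤ) - a - (j + 1 : ℕ)) z
        rw [h0, map_zero] at h2
        have h3 : -(n : ℤ) - a - (j + 1 : ℕ) + 1 = -(n : ℤ) - a - j := by push_cast; ring
        rw [h3] at h2
        have h4 : LinearMap.lsmul (MvPolynomial (Fin n) k) (E.H m n) (MvPolynomial.X ⟨0, hn⟩) z = y := hz
        rw [h4, Dec.proj_of_mem (E.Hgr m n) hy] at h2
        exact h2.symm
    obtain ⟨y, hy, hy0⟩ := key j
    rw [← hj] at hy
    have hy' : y ∈ E.Hcomp m n d := hy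
    rw [hb] at hy'
    exact hy0 ((Submodule.mem_bot _).1 hy')
  · intro hd
    rw [Submodule.eq_bot_iff]
    intro y hy
    have key : ∀ (N : ℕ) (d : ℤ) (y : E.H m n), -(n : ℤ) < d + a → y ∈ E.Hgr m n d →
        (∀ r ∈ m.toIdeal ^ N, r • y = 0) → y = 0 := by
      intro N
      induction N with
      | zero =>
        intro d y _ _ h0
        have := h0 1 (by rw [pow_zero, Ideal.one_eq_top]; exact Submodule.mem_top)
        rwa [one_smul] at this
      | succ N ih =>
        intro d y hd hy h0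
        have h2 : ∀ i : Fin n, (MvPolynomial.X i : MvPolynomial (Fin n) k) • y = 0 := by
          intro i
          refine ih (d + 1) _ (by omega) ?_ ?_
          · have := (Iface.Hgsmul E m n).smul_mem (X_mem (k := k) (n := n) i) hy
            rw [vadd_eq_add, add_comm] at this
            exact this
          · intro r hr
            rw [smul_smul]
            refine h0 _ ?_
            rw [pow_succ]
            exact Ideal.mul_mem_mul hr (by rw [hm]; exact Ideal.subset_span ⟨i, rfl⟩)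
        obtain ⟨x, hx, rfl⟩ := hpre d y hy h2
        rw [← LinearMap.mem_ker, hk, hm]
        refine (K860.Basic.mem_span_X_iff x).2 (K860.Basic.constantCoeff_eq_zero (n := d + n + a) (by omega) hx)
    have ht : y ∈ gam m.toIdeal (E.H m n) := by rw [Iface.gam_H]; exact Submodule.mem_top
    obtain ⟨N, hN⟩ := ht
    exact key N d y hd hy hN

end K963.PolyLC
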