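import Groth.Agent.GrSegre.K963.Fun

/-!
# Graded local cohomology of `M # N` when some `g ∈ S_e`, `e > 0`, acts bijectively on `N`
-/

set_option autoImplicit false
set_option linter.unusedSectionVars false
set_option linter.unusedVariables false
set_option linter.style.haveILetI false
set_option warn.classDefReducibility false
universe u
open scoped TensorProduct DirectSum
open K759.Gr K759.GrObj K962.Basic K962.Pieces K962.KM K962.Seg K962.Tot K962.TotK K962.TotTors K962.Van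
open K962.VanK K962.Coh K963.Fun

namespace K963.Bij

/-- two surjections with the same kernel -/
theorem exists_equiv_of_surj {R : Type u} [CommRing R] {Z A B : Type u} [AddCommGroup Z] [Module R Z]
    [AddCommGroup A] [Module R A] [AddCommGroup B] [Module R B] (π : Z →ₗ[R] A) (ρ : Z →ₗ[R] B)
    (hπ : Function.Surjective π) (hρ : Function.Surjective ρ) (h : ∀ z, π z = 0 ↔ ρ z = 0) :
    ∃ e : A ≃ₗ[R] B, ∀ z, e (π z) = ρ z := by
  have hk : LinearMap.ker π = LinearMap.ker ρ := by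
    ext z; exact h z
  refine ⟨(π.quotKerEquivOfSurjective hπ).symm ≪≫ₗ Submodule.quotEquivOfEq _ _ hk ≪≫ₗ
    ρ.quotKerEquivOfSurjective hρ, fun z => ?_⟩
  have h1 : (π.quotKerEquivOfSurjective hπ).symm (π z) = Submodule.Quotient.mk z := by
    rw [LinearEquiv.symm_apply_eq]
    exact (LinearMap.quotKerEquivOfSurjective_apply_mk π hπ z).symm
  rw [LinearEquiv.trans_apply, LinearEquiv.trans_apply, h1, Submodule.quotEquivOfEq_mk]
  exact LinearMap.quotKerEquivOfSurjective_apply_mk ρ hρ z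

/-- injective graded maps reflect degrees -/
theorem mem_of_map_mem {M N : Type u} [AddCommGroup M] [AddCommGroup N] {ι : Type} [DecidableEq ι]
    {ℳ : ι → AddSubgroup M} [DirectSum.Decomposition ℳ] {𝒩 : ι → AddSubgroup N} [DirectSum.Decomposition 𝒩]
    {F : Type*} [FunLike F M N] [AddMonoidHomClass F M N] (f : F) (hf : ∀ g x, x ∈ ℳ g → f x ∈ 𝒩 g)
    (hinj : Function.Injective f) {g : ι} {x : M} (hx : f x ∈ 𝒩 g) : x ∈ ℳ g := by
  refine Dec.mem_of_proj_eq_zero ℳ fun h hh => hinj ?_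
  rw [Dec.map_proj ℳ 𝒩 f hf, Dec.proj_of_mem_ne 𝒩 hx (Ne.symm hh), map_zero]

section CompK

variable {k : Type u} [CommRing k] {R : Type u} [CommRing R] [Algebra k R] [IsNoetherianRing R]
  {ι : Type} [AddCommGroup ι] [DecidableEq ι]
  {𝒜 : ι → Submodule k R} [GradedAlgebra 𝒜] {C : ℕ → KMod.{u} 𝒜}
  {d : ∀ p, (C p).carrier →ₗ[R] (C (p + 1)).carrier}
  (hd : ∀ p, GrLC.IsGrHom (C p).gr (C (p + 1)).gr (d p))

/-- The comparison theorem for complexes of `KMod`. -/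
theorem comparison_K (a : HomogeneousIdeal 𝒜) (hdd : ∀ p x, d (p + 1) (d p x) = 0)
    (t0 : ∀ x : (C 0).carrier, d 0 x = 0 → ∃ m : ℕ, ∀ r ∈ a.toIdeal ^ m, r • x = 0)
    (tS : ∀ n (x : (C (n + 1)).carrier), d (n + 1) x = 0 →
      ∃ m : ℕ, ∀ r ∈ a.toIdeal ^ m, r • x ∈ LinearMap.range (d n))
    (hV : ∀ n, Van a (C (n + 1)).toG) (E : GrLC.StarInjRes 𝒜 (C 0).gr) (q : ℕ) :
    ∃ φ : (Zo hd q).carrier →ₗ[R] E.H a q, Function.Surjective φ ∧ (∀ z, φ z = 0 ↔ hpi hd q z = 0) ∧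
      (∀ g z, z ∈ (Zo hd q).gr g → φ z ∈ E.Hcomp a q g) ∧
      (∀ g y, y ∈ E.Hcomp a q g → ∃ z ∈ (Zo hd q).gr g, φ z = y) := by
  obtain ⟨h0, h1⟩ := Iface.comparison a (fun n => (C n).toG) (fun n => d n) (fun n => hd n)
    (fun n x => hdd n x) (fun x hx => t0 x hx) (fun n x hx => tS n x hx) (fun n E q => hV n E q) E
  cases q with
  | zero =>
    obtain ⟨φ, hφ⟩ := h0
    refine ⟨φ.toLinearMap, φ.surjective, fun z => ?_, fun g z hz => (hφ z g).2 hz, fun g y hy => ?_⟩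
    · rw [hpi_zero_eq_zero_iff]
      exact φ.map_eq_zero_iff
    · refine ⟨φ.symm y, ?_, φ.apply_symm_apply y⟩
      have := (hφ (φ.symm y) g).1 (by rw [φ.apply_symm_apply]; exact hy)
      exact this
  | succ q =>
    obtain ⟨φ, hs, hk, h2, h3⟩ := h1 q
    refine ⟨φ, hs, fun z => ?_, fun g z hz => h2 z g hz, fun g y hy => ?_⟩
    · rw [hpi_succ_eq_zero_iff]
      have : z ∈ LinearMap.ker φ ↔ z ∈ (LinearMap.range (d q)).comap (LinearMap.ker (d (q + 1))).subtype := by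
        rw [hk]
      exact this
    · obtain ⟨x, hx, hxy⟩ := h3 g y hy
      exact ⟨x, hx, hxy⟩

end CompK

section Aug

variable {k : Type u} [CommRing k] {R : Type u} [CommRing R] [Algebra k R]
  {ι : Type} [AddCommGroup ι] [DecidableEq ι] {𝒜 : ι → Submodule k R} [GradedAlgebra 𝒜]
  {κ : Type} [Fintype κ] {D : ι} {x : κ → R} (hx : ∀ i, x i ∈ 𝒜 D) (X : KMod.{u} 𝒜)

/-- The augmented Čech-type complex. -/
noncomputable def AC : ℕ → KMod.{u} 𝒜
  | 0 => X
  | n + 1 => K962.Res.C hx X n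

/-- The differentials of the augmented Čech-type complex. -/
noncomputable def Ad : ∀ n, (AC hx X n).carrier →ₗ[R] (AC hx X (n + 1)).carrier
  | 0 => K962.Res.ε hx X
  | n + 1 => K962.Res.d hx X n

theorem Ad_grHom (n : ℕ) : GrLC.IsGrHom (AC hx X n).gr (AC hx X (n + 1)).gr (Ad hx X n) := by
  cases n with
  | zero => exact K962.Res.ε_grHom hx X
  | succ n => exact K962.Res.d_grHom hx X n

theorem Ad_Ad (n : ℕ) (u : (AC hx X n).carrier) : Ad hx X (n + 1) (Ad hx X n u) = 0 := by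
  cases n with
  | zero => exact K962.Res.d_ε hx X u
  | succ n => exact K962.Res.d_d hx X n u

variable {a : Ideal R} (ha : a.FG) (hax : a ≤ (Ideal.span (Set.range x)).radical)
include ha hax

theorem Ad_tors_zero {u : X.carrier} (h : Ad hx X 0 u = 0) : ∃ m : ℕ, ∀ r ∈ a ^ m, r • u = 0 :=
  K962.Res.tors_ε hx ha hax X h

theorem Ad_tors_succ (n : ℕ) {u : (AC hx X (n + 1)).carrier} (h : Ad hx X (n + 1) u = 0) :
    ∃ m : ℕ, ∀ r ∈ a ^ m, r • u ∈ LinearMap.range (Ad hx X n) := by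
  cases n with
  | zero => exact K962.Res.tors_zero hx ha hax X h
  | succ n => exact K962.Res.tors_succ hx ha hax X n h

/-- The cohomology of the augmented complex is torsion. -/
theorem Ho_tors (n : ℕ) (v : (Ho (Ad_grHom hx X) n).carrier) : ∃ m : ℕ, ∀ r ∈ a ^ m, r • v = 0 := by
  obtain ⟨z, rfl⟩ := hpi_surjective (Ad_grHom hx X) n v
  have hz : Ad hx X n (zsub (Ad_grHom hx X) n z) = 0 := z.2
  cases n with
  | zero =>
    obtain ⟨m, hm⟩ := Ad_tors_zero hx X ha hax hz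
    refine ⟨m, fun r hr => ?_⟩
    have h1 : r • z = 0 := zsub_injective (Ad_grHom hx X) 0 (by rw [map_smul, map_zero]; exact hm r hr)
    rw [← map_smul, h1, map_zero]
  | succ n =>
    obtain ⟨m, hm⟩ := Ad_tors_succ hx X ha hax n hz
    refine ⟨m, fun r hr => ?_⟩
    rw [← map_smul]
    refine (hpi_succ_eq_zero_iff (Ad_grHom hx X)).2 ?_
    obtain ⟨y, hy⟩ := hm r hr
    exact ⟨y, by rw [map_smul]; exact hy⟩

end Aug

section Main

variable {k : Type u} [Field k] {R S T : Type u} [CommRing R] [Algebra k R] [CommRing S] [Algebra k S]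
  [CommRing T] [Algebra k T]
  {𝒜 : ℤ → Submodule k R} [GradedAlgebra 𝒜] {ℬ : ℤ → Submodule k S} [GradedAlgebra ℬ]
  {𝒯 : ℤ → Submodule k T} [GradedAlgebra 𝒯] {ψ : T →ₐ[k] R ⊗[k] S} (hT : GrSeg.IsSegreRing 𝒜 ℬ 𝒯 ψ)

/-- Segre products with torsion modules are torsion. -/
theorem tors_seg {aR : Ideal R} {aS : Ideal S} {aT : Ideal T}
    (hψ : ∀ t ∈ aT, ψ t ∈ (ps aR aS : Submodule k (R ⊗[k] S))) (X : KMod.{u} 𝒜) (Y : KMod.{u} ℬ)
    (hX : ∀ u : X.carrier, ∃ m : ℕ, ∀ r ∈ aR ^ m, r • u = 0) (w : (seg X Y hT).carrier) :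
    ∃ m : ℕ, ∀ t ∈ aT ^ m, t • w = 0 := by
  obtain ⟨m, hm⟩ := K962.TotAug.tors_ker (k := k) (aR := aR) (aS := aS) (0 : X.carrier →ₗ[R] X.carrier)
    (LinearMap.id : Y.carrier →ₗ[S] Y.carrier) (fun u _ => hX u) (fun u hu => ⟨0, fun r _ => by
      have : u = 0 := hu
      rw [this, smul_zero]⟩) (z := toTT.symm (show segSub X Y hT from w).1) (by
      have h1 : (0 : X.carrier →ₗ[R] X.carrier).restrictScalars k = 0 := rfl
      rw [h1, TensorProduct.map_zero_left, LinearMap.zero_apply])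
  refine ⟨m, fun t ht => segMap_ext hT Y ?_⟩
  change toTT.symm (t • (show segSub X Y hT from w).1) = toTT.symm 0
  rw [smul_def, LinearEquiv.symm_apply_apply, map_zero]
  exact hm _ (psi_pow_mem hψ m t ht)

section Cx

variable {C : ℕ → KMod.{u} 𝒜} {d : ∀ p, (C p).carrier →ₗ[R] (C (p + 1)).carrier}
  (hd : ∀ p, GrLC.IsGrHom (C p).gr (C (p + 1)).gr (d p)) (Y : KMod.{u} ℬ)

/-- The differential of `C # Y`. -/
noncomputable def sd (p : ℕ) : (seg (C p) Y hT).carrier →ₗ[T] (seg (C (p + 1)) Y hT).carrier :=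
  segMap hT (hd p) (idGr Y)

theorem sd_grHom (p : ℕ) : GrLC.IsGrHom (seg (C p) Y hT).gr (seg (C (p + 1)) Y hT).gr (sd hT hd Y p) :=
  segMap_grHom hT (hd p) (idGr Y)

theorem segMap_comp {X X' X'' : KMod.{u} 𝒜} {f : X.carrier →ₗ[R] X'.carrier}
    {g : X'.carrier →ₗ[R] X''.carrier} {h : X.carrier →ₗ[R] X''.carrier} (hf : GrLC.IsGrHom X.gr X'.gr f)
    (hg : GrLC.IsGrHom X'.gr X''.gr g) (hh : GrLC.IsGrHom X.gr X''.gr h) (e : ∀ x, g (f x) = h x)
    (w : (seg X Y hT).carrier) :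
    segMap hT hg (idGr Y) (segMap hT hf (idGr Y) w) = segMap hT hh (idGr Y) w := by
  apply segMap_ext hT Y
  rw [segMap_val', segMap_val', segMap_val']
  have h1 : (g.restrictScalars k).rTensor Y.carrier ∘ₗ (f.restrictScalars k).rTensor Y.carrier =
      (h.restrictScalars k).rTensor Y.carrier := by
    rw [← LinearMap.rTensor_comp]
    congr 1
    ext x; exact e x
  exact LinearMap.congr_fun h1 _

theorem sd_sd (hdd : ∀ p x, d (p + 1) (d p x) = 0) (p : ℕ) (w : (seg (C p) Y hT).carrier) :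
    sd hT hd Y (p + 1) (sd hT hd Y p w) = 0 := by
  have h0 : GrLC.IsGrHom (C p).gr (C (p + 1 + 1)).gr (0 : (C p).carrier →ₗ[R] (C (p + 1 + 1)).carrier) :=
    fun _ _ _ => zero_mem _
  refine (segMap_comp hT Y (hd p) (hd (p + 1)) h0 (fun x => hdd p x) w).trans ?_
  apply segMap_ext hT Y
  rw [segMap_val']
  have h1 : (0 : (C p).carrier →ₗ[R] (C (p + 1 + 1)).carrier).restrictScalars k = 0 := rfl
  rw [h1, LinearMap.rTensor_zero]; rfl

/-- the cocycles of `C # Y` -/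
noncomputable def zmap (p : ℕ) : (seg (Zo hd p) Y hT).carrier →ₗ[T] (Zo (sd_grHom hT hd Y) p).carrier :=
  LinearMap.codRestrict (LinearMap.ker (sd hT hd Y p)) (segMap hT (zsub_grHom hd p) (idGr Y)) (fun w => by
    have h0 : GrLC.IsGrHom (Zo hd p).gr (C (p + 1)).gr (0 : (Zo hd p).carrier →ₗ[R] (C (p + 1)).carrier) :=
      fun _ _ _ => zero_mem _
    refine LinearMap.mem_ker.2 ((segMap_comp hT Y (zsub_grHom hd p) (hd p) h0 (fun x => x.2) w).trans ?_)
    apply segMap_ext hT Y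
    rw [segMap_val']
    have h1 : (0 : (Zo hd p).carrier →ₗ[R] (C (p + 1)).carrier).restrictScalars k = 0 := rfl
    rw [h1, LinearMap.rTensor_zero]; rfl)

theorem zmap_val (p : ℕ) (w : (seg (Zo hd p) Y hT).carrier) :
    zsub (sd_grHom hT hd Y) p (zmap hT hd Y p w) = segMap hT (zsub_grHom hd p) (idGr Y) w := rfl

theorem zmap_bijective (p : ℕ) : Function.Bijective (zmap hT hd Y p) := by
  constructor
  · intro w w' h
    apply segMap_injective hT Y (zsub_grHom hd p) (zsub_injective hd p)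
    rw [← zmap_val, h, zmap_val]
  · intro z
    have hex : Function.Exact (zsub hd p) (d p) := by
      intro x
      constructor
      · intro hx; exact ⟨⟨x, hx⟩, rfl⟩
      · rintro ⟨y, rfl⟩; exact y.2
    obtain ⟨w, hw⟩ := (segMap_exact hT Y (zsub_grHom hd p) (hd p) hex
      (zsub (sd_grHom hT hd Y) p z)).1 z.2
    exact ⟨w, zsub_injective (sd_grHom hT hd Y) p hw⟩

theorem zmap_mem_iff (p : ℕ) (n : ℤ) (w : (seg (Zo hd p) Y hT).carrier) :
    zmap hT hd Y p w ∈ (Zo (sd_grHom hT hd Y) p).gr n ↔ w ∈ (seg (Zo hd p) Y hT).gr n := by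
  constructor
  · intro h
    exact mem_of_map_mem (segMap hT (zsub_grHom hd p) (idGr Y)) (segMap_grHom hT (zsub_grHom hd p) (idGr Y))
      (segMap_injective hT Y (zsub_grHom hd p) (zsub_injective hd p)) h
  · intro h
    exact segMap_grHom hT (zsub_grHom hd p) (idGr Y) n w h

/-- the class map of `H # Y` -/
noncomputable def hmap (p : ℕ) : (seg (Zo hd p) Y hT).carrier →ₗ[T] (seg (Ho hd p) Y hT).carrier :=
  segMap hT (hpi_grHom hd p) (idGr Y)

theorem hmap_surjective (p : ℕ) : Function.Surjective (hmap hT hd Y p) :=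
  segMap_surjective hT Y (hpi_grHom hd p) (hpi_surjective hd p)

theorem hmap_eq_zero_iff (hdd : ∀ p x, d (p + 1) (d p x) = 0) (p : ℕ) (w : (seg (Zo hd p) Y hT).carrier) :
    hmap hT hd Y p w = 0 ↔ hpi (sd_grHom hT hd Y) p (zmap hT hd Y p w) = 0 := by
  cases p with
  | zero =>
    have hinj : Function.Injective (hpi hd 0) := by
      rw [injective_iff_map_eq_zero]
      intro z hz; exact (hpi_zero_eq_zero_iff hd).1 hz
    rw [hpi_zero_eq_zero_iff]
    constructor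
    · intro h
      have h1 : w = 0 := segMap_injective hT Y (hpi_grHom hd 0) hinj (h.trans (map_zero _).symm)
      rw [h1, map_zero]
    · intro h
      have h1 : w = 0 := (zmap_bijective hT hd Y 0).1 (h.trans (map_zero _).symm)
      rw [h1, map_zero]
  | succ p =>
    let f : (C p).carrier →ₗ[R] (Zo hd (p + 1)).carrier :=
      LinearMap.codRestrict (LinearMap.ker (d (p + 1))) (d p) (fun x => hdd p x)
    have hf : GrLC.IsGrHom (C p).gr (Zo hd (p + 1)).gr f := fun n x hx => hd p n x hx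
    have hex : Function.Exact f (hpi hd (p + 1)) := by
      intro z
      rw [hpi_succ_eq_zero_iff]
      constructor
      · rintro ⟨y, hy⟩; exact ⟨y, Subtype.ext hy⟩
      · rintro ⟨y, hy⟩; exact ⟨y, congrArg Subtype.val hy⟩
    rw [hpi_succ_eq_zero_iff]
    have h1 := segMap_exact hT Y hf (hpi_grHom hd (p + 1)) hex w
    refine h1.trans ⟨?_, ?_⟩
    · rintro ⟨y, hy⟩
      refine ⟨y, ?_⟩
      rw [zmap_val, ← hy]
      exact (segMap_comp hT Y hf (zsub_grHom hd (p + 1)) (hd p) (fun x => rfl) y).symm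
    · rintro ⟨y, hy⟩
      refine ⟨y, ?_⟩
      apply segMap_injective hT Y (zsub_grHom hd (p + 1)) (zsub_injective hd (p + 1))
      rw [← zmap_val hT hd Y (p + 1) w, ← hy]
      exact segMap_comp hT Y hf (zsub_grHom hd (p + 1)) (hd p) (fun x => rfl) y

/-- `C # Y` has torsion cohomology. -/
theorem sd_tors_zero {aR : Ideal R} {aS : Ideal S} {aT : Ideal T} (hdd : ∀ p x, d (p + 1) (d p x) = 0)
    (hψ : ∀ t ∈ aT, ψ t ∈ (ps aR aS : Submodule k (R ⊗[k] S)))
    (hH : ∀ v : (Ho hd 0).carrier, ∃ m : ℕ, ∀ r ∈ aR ^ m, r • v = 0) (w : (seg (C 0) Y hT).carrier)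
    (hw : sd hT hd Y 0 w = 0) : ∃ m : ℕ, ∀ t ∈ aT ^ m, t • w = 0 := by
  obtain ⟨v, hv⟩ := (zmap_bijective hT hd Y 0).2 ⟨w, hw⟩
  obtain ⟨m, hm⟩ := tors_seg hT hψ (Ho hd 0) Y hH (hmap hT hd Y 0 v)
  refine ⟨m, fun t ht => ?_⟩
  have h1 := hm t ht
  rw [← map_smul, hmap_eq_zero_iff hT hd Y hdd, hpi_zero_eq_zero_iff, map_smul, hv] at h1
  exact congrArg Subtype.val h1

theorem sd_tors_succ {aR : Ideal R} {aS : Ideal S} {aT : Ideal T} (hdd : ∀ p x, d (p + 1) (d p x) = 0)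
    (hψ : ∀ t ∈ aT, ψ t ∈ (ps aR aS : Submodule k (R ⊗[k] S))) (p : ℕ)
    (hH : ∀ v : (Ho hd (p + 1)).carrier, ∃ m : ℕ, ∀ r ∈ aR ^ m, r • v = 0)
    (w : (seg (C (p + 1)) Y hT).carrier) (hw : sd hT hd Y (p + 1) w = 0) :
    ∃ m : ℕ, ∀ t ∈ aT ^ m, t • w ∈ LinearMap.range (sd hT hd Y p) := by
  obtain ⟨v, hv⟩ := (zmap_bijective hT hd Y (p + 1)).2 ⟨w, hw⟩
  obtain ⟨m, hm⟩ := tors_seg hT hψ (Ho hd (p + 1)) Y hH (hmap hT hd Y (p + 1) v)
  refine ⟨m, fun t ht => ?_⟩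
  have h1 := hm t ht
  rw [← map_smul, hmap_eq_zero_iff hT hd Y hdd, hpi_succ_eq_zero_iff, map_smul, hv] at h1
  obtain ⟨y, hy⟩ := h1
  exact ⟨y, hy⟩

/-- Graded local cohomology of `C 0 # Y` is `H # Y`. -/
theorem exists_equiv [IsNoetherianRing T] (mT : HomogeneousIdeal 𝒯) {aR : Ideal R} {aS : Ideal S}
    (hdd : ∀ p x, d (p + 1) (d p x) = 0)
    (hψ : ∀ t ∈ mT.toIdeal, ψ t ∈ (ps aR aS : Submodule k (R ⊗[k] S)))
    (hH : ∀ p, ∀ v : (Ho hd p).carrier, ∃ m : ℕ, ∀ r ∈ aR ^ m, r • v = 0)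
    (hV : ∀ n, Van mT (seg (C (n + 1)) Y hT).toG) (E : GrLC.StarInjRes 𝒯 (seg (C 0) Y hT).gr) (q : ℕ) :
    ∃ θ : E.H mT q ≃ₗ[T] (seg (Ho hd q) Y hT).carrier,
      ∀ (y : E.H mT q) (n : ℤ), y ∈ E.Hcomp mT q n ↔ θ y ∈ (seg (Ho hd q) Y hT).gr n := by
  obtain ⟨φ, h1, h2, h3, h4⟩ := comparison_K (sd_grHom hT hd Y) mT (sd_sd hT hd Y hdd)
    (fun w hw => sd_tors_zero hT hd Y hdd hψ (hH 0) w hw)
    (fun p w hw => sd_tors_succ hT hd Y hdd hψ p (hH (p + 1)) w hw) hV E q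
  obtain ⟨θ, hθ⟩ := exists_equiv_of_surj (φ ∘ₗ zmap hT hd Y q) (hmap hT hd Y q)
    (h1.comp (zmap_bijective hT hd Y q).2) (hmap_surjective hT hd Y q) (fun w => by
      rw [hmap_eq_zero_iff hT hd Y hdd, LinearMap.comp_apply, h2])
  refine ⟨θ, fun y n => ⟨fun hy => ?_, fun hy => ?_⟩⟩
  · obtain ⟨z, hz, rfl⟩ := h4 n y hy
    obtain ⟨w, rfl⟩ := (zmap_bijective hT hd Y q).2 z
    rw [zmap_mem_iff] at hz
    have e := hθ w
    rw [LinearMap.comp_apply] at e
    rw [e]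
    exact segMap_grHom hT (hpi_grHom hd q) (idGr Y) n w hz
  · obtain ⟨w, hw, hwy⟩ := exists_segMap_eq hT Y (hpi_grHom hd q)
      (fun n y hy => exists_hpi_eq hd hy) hy
    have e := hθ w
    rw [LinearMap.comp_apply] at e
    have e2 : φ (zmap hT hd Y q w) = y := θ.injective (e.trans hwy)
    rw [← e2]
    exact h3 n _ ((zmap_mem_iff hT hd Y q n w).2 hw)

end Cx

end Main

end K963.Bij
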