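import Groth.Agent.GrSegre.K963.Bij
import Groth.Agent.GrSegre.K961.Irr

/-!
# Graded local cohomology of `M # N` when some `g ∈ S_e`, `e > 0`, acts bijectively on `N`: conclusion
-/

set_option autoImplicit false
set_option linter.unusedSectionVars false
set_option linter.unusedVariables false
set_option linter.style.haveILetI false
set_option warn.classDefReducibility false
universe u
open scoped TensorProduct DirectSum
open K759.Gr K759.GrObj K962.Basic K962.Pieces K962.KM K962.Seg K962.Tot K962.TotK K962.TotTors K962.Van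
open K962.VanK K962.Coh K963.Fun K961.Irr

namespace K963.Bij

/-- homogeneous generators up to radical of one common degree, a multiple of `e`. -/
theorem exists_gens {k : Type u} [CommRing k] {R : Type u} [CommRing R] [Algebra k R] [IsNoetherianRing R]
    (𝒜 : ℤ → Submodule k R) [GradedAlgebra 𝒜] (e : ℕ) (he : 0 < e) :
    ∃ (n D : ℕ) (x : Fin n → R), 0 < D ∧ (∀ i, x i ∈ 𝒜 ((e * D : ℕ) : ℤ)) ∧
      irr 𝒜 ≤ (Ideal.span (Set.range x)).radical := by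
  classical
  have hfg : (irr 𝒜).FG := IsNoetherian.noetherian _
  obtain ⟨s, hs, hspan⟩ := (Submodule.fg_span_iff_fg_span_finset_subset
    (⋃ n ∈ Set.Ioi (0 : ℤ), (𝒜 n : Set R))).1 hfg
  have hdeg : ∀ y : s, ∃ n : ℕ, 0 < n ∧ (y : R) ∈ 𝒜 (n : ℤ) := by
    intro y
    obtain ⟨n, hn, hy⟩ := Set.mem_iUnion₂.mp (hs y.2)
    have hn' : 0 < n := hn
    exact ⟨n.toNat, by omega, by rw [Int.toNat_of_nonneg hn'.le]; exact hy⟩
  choose d hd0 hd using hdeg
  refine ⟨s.card, ∏ y : s, d y, fun i => (s.equivFin.symm i : R) ^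
    (e * ∏ y ∈ Finset.univ.erase (s.equivFin.symm i), d y), Finset.prod_pos fun y _ => hd0 y, fun i => ?_, ?_⟩
  · have h1 := SetLike.pow_mem_graded (e * ∏ y ∈ Finset.univ.erase (s.equivFin.symm i), d y)
      (hd (s.equivFin.symm i))
    convert h1 using 2
    rw [← Finset.mul_prod_erase Finset.univ d (Finset.mem_univ (s.equivFin.symm i))]
    push_cast
    rw [nsmul_eq_mul]
    push_cast
    ring
  · have h2 : irr 𝒜 = Ideal.span (s : Set R) := hspan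
    rw [h2, Ideal.span_le]
    intro y hy
    refine ⟨e * ∏ z ∈ Finset.univ.erase (⟨y, hy⟩ : s), d z, Ideal.subset_span ⟨s.equivFin ⟨y, hy⟩, ?_⟩⟩
    simp

section

variable {k : Type u} [Field k] {R S T : Type u} [CommRing R] [Algebra k R] [CommRing S] [Algebra k S]
  [CommRing T] [Algebra k T]
  {𝒜 : ℤ → Submodule k R} [GradedAlgebra 𝒜] {ℬ : ℤ → Submodule k S} [GradedAlgebra ℬ]
  {𝒯 : ℤ → Submodule k T} [GradedAlgebra 𝒯] {ψ : T →ₐ[k] R ⊗[k] S} (hT : GrSeg.IsSegreRing 𝒜 ℬ 𝒯 ψ)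

include hT in
theorem psi_irr {t : T} (ht : t ∈ irr 𝒯) : ψ t ∈ (ps (irr 𝒜) (irr ℬ) : Submodule k (R ⊗[k] S)) := by
  refine Submodule.span_induction (p := fun t _ => ψ t ∈ (ps (irr 𝒜) (irr ℬ) : Submodule k (R ⊗[k] S)))
    ?_ ?_ ?_ ?_ ht
  · intro t ht
    obtain ⟨n, hn, ht⟩ := Set.mem_iUnion₂.mp ht
    have hn' : 0 < n := hn
    have h1 : ψ t ∈ GrSeg.segrePiece k 𝒜 ℬ n := psi_mem hT ht
    refine (Submodule.span_le.2 ?_ : GrSeg.segrePiece k 𝒜 ℬ n ≤ _) h1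
    rintro _ ⟨a, ha, b, hb, rfl⟩
    exact tmul_mem_ps (mem_irr_of_mem 𝒜 hn' ha) (mem_irr_of_mem ℬ hn' hb)
  · rw [map_zero]; exact zero_mem _
  · intro x y _ _ hx hy
    rw [map_add]; exact add_mem hx hy
  · intro c x _ hx
    rw [smul_eq_mul, map_mul, mul_comm]
    have h1 : ψ c ∈ (ps ⊤ ⊤ : Submodule k (R ⊗[k] S)) := by rw [ps_top]; trivial
    have h2 := mul_mem_ps hx h1
    rwa [Ideal.mul_top, Ideal.mul_top] at h2

variable {M N P : Type u} [AddCommGroup M] [Module R M] [Module k M] [IsScalarTower k R M]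
  [AddCommGroup N] [Module S N] [Module k N] [IsScalarTower k S N]
  [AddCommGroup P] [Module T P] [Module k P] [IsScalarTower k T P]
  {ℳ : ℤ → AddSubgroup M} [DirectSum.Decomposition ℳ] [SetLike.GradedSMul 𝒜 ℳ]
  {𝒩 : ℤ → AddSubgroup N} [DirectSum.Decomposition 𝒩] [SetLike.GradedSMul ℬ 𝒩]
  {𝒬 : ℤ → AddSubgroup P} [DirectSum.Decomposition 𝒬] [SetLike.GradedSMul 𝒯 𝒬]
  {φ : P →ₗ[k] M ⊗[k] N} (hP : GrSeg.IsSegreMod ψ ℳ 𝒩 𝒬 φ)

theorem van_seg (mT : HomogeneousIdeal 𝒯) {κ : Type} [Fintype κ] {D : ℤ} {x : κ → R} (hx : ∀ i, x i ∈ 𝒜 D)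
    (X : KMod.{u} 𝒜) (Y : KMod.{u} ℬ) {y : S} (hy : y ∈ ℬ D) (hyY : Function.Bijective (fun m : Y.carrier => y • m))
    (hmT : ∀ t ∈ 𝒯 D, t ∈ mT.toIdeal) (n : ℕ) : Van mT (seg (AC hx X (n + 1)) Y hT).toG := by
  classical
  exact van_seg_of_sum (κ := κ) (κ' := Unit) hT mT (K962.Res.C hx X n) (K962.Res.Y hx X n) Y (fun _ => Y)
    (K962.Res.cincl hx X n) (K962.Res.cproj hx X n) (K962.Res.cincl_grHom hx X n) (K962.Res.cproj_grHom hx X n)
    (K962.Res.sum_cincl_cproj hx X n) (fun _ => LinearMap.id) (fun _ => LinearMap.id)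
    (fun _ => idGr Y) (fun _ => idGr Y) (fun w => by simp)
    (fun i _ => van_seg_of_bijective hT mT _ Y (hx i) hy hmT (K962.Res.Y_smul_bijective hx X n i) hyY)

theorem van_C (mR : HomogeneousIdeal 𝒜) {κ : Type} [Fintype κ] {D : ℤ} {x : κ → R} (hx : ∀ i, x i ∈ 𝒜 D)
    (X : KMod.{u} 𝒜) (hmR : ∀ t ∈ 𝒜 D, t ∈ mR.toIdeal) (n : ℕ) : Van mR (AC hx X (n + 1)).toG := by
  classical
  exact van_of_sum (κ := κ) mR (K962.Res.C hx X n).toG (fun i => (K962.Res.Y hx X n i).toG)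
    (K962.Res.cincl hx X n) (K962.Res.cproj hx X n) (K962.Res.cincl_grHom hx X n) (K962.Res.cproj_grHom hx X n)
    (K962.Res.sum_cincl_cproj hx X n)
    (fun i => van_of_bijective mR (hx i) (hmR _ (hx i)) (K962.Res.Y_smul_bijective hx X n i))

include hP hT in
theorem exists_isSegreMod_H [Algebra.FiniteType k R] [Algebra.FiniteType k S]
    (mR : HomogeneousIdeal 𝒜) (hmR : mR.toIdeal = irr 𝒜) (mT : HomogeneousIdeal 𝒯) (hmT : mT.toIdeal = irr 𝒯)
    (EM : GrLC.StarInjRes 𝒜 ℳ) (e : ℕ) (he : 0 < e) (g : S) (hg : g ∈ ℬ (e : ℤ))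
    (hgN : Function.Bijective (fun y : N => g • y)) (EP : GrLC.StarInjRes 𝒯 𝒬) (q : ℕ)
    [Module k (EM.H mR q)] [IsScalarTower k R (EM.H mR q)]
    [Module k (EP.H mT q)] [IsScalarTower k T (EP.H mT q)] [DirectSum.Decomposition (EP.Hgr mT q)] :
    ∃ φ' : EP.H mT q →ₗ[k] TensorProduct k (EM.H mR q) N,
      GrSeg.IsSegreMod ψ (EM.Hgr mR q) 𝒩 (EP.Hgr mT q) φ' := by
  have hRn : IsNoetherianRing R := Algebra.FiniteType.isNoetherianRing k R
  have hTn : IsNoetherianRing T := isNoetherianRing_segreRing hT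
  obtain ⟨n, D, x, hD, hx, hrad⟩ := exists_gens 𝒜 e he
  have hDpos : (0 : ℤ) < ((e * D : ℕ) : ℤ) := by exact_mod_cast Nat.mul_pos he hD
  let X : KMod.{u} 𝒜 := KMod.of 𝒜 M ℳ
  let Y : KMod.{u} ℬ := KMod.of ℬ N 𝒩
  have hy : g ^ D ∈ ℬ ((e * D : ℕ) : ℤ) := by
    have h1 := SetLike.pow_mem_graded D hg
    convert h1 using 2
    push_cast; rw [nsmul_eq_mul]; ring
  have hyY : Function.Bijective (fun m : N => g ^ D • m) := K962.Elem.pow_bijective hgN D
  have hrad' : mR.toIdeal ≤ (Ideal.span (Set.range x)).radical := by rw [hmR]; exact hrad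
  -- over `R`
  obtain ⟨φR, r1, r2, r3, r4⟩ : ∃ φ : (Zo (Ad_grHom hx X) q).carrier →ₗ[R] EM.H mR q,
      Function.Surjective φ ∧ (∀ z, φ z = 0 ↔ hpi (Ad_grHom hx X) q z = 0) ∧
      (∀ g z, z ∈ (Zo (Ad_grHom hx X) q).gr g → φ z ∈ EM.Hcomp mR q g) ∧
      (∀ g y, y ∈ EM.Hcomp mR q g → ∃ z ∈ (Zo (Ad_grHom hx X) q).gr g, φ z = y) :=
    comparison_K (C := AC hx X) (d := Ad hx X) (Ad_grHom hx X) mR (Ad_Ad hx X)
    (fun u hu => Ad_tors_zero hx X (IsNoetherian.noetherian mR.toIdeal) hrad' hu)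
    (fun n u hu => Ad_tors_succ hx X (IsNoetherian.noetherian mR.toIdeal) hrad' n hu)
    (van_C mR hx X (fun t ht => by rw [hmR]; exact mem_irr_of_mem 𝒜 hDpos ht)) EM q
  obtain ⟨eR, heR⟩ := exists_equiv_of_surj (hpi (Ad_grHom hx X) q) φR (hpi_surjective (Ad_grHom hx X) q) r1
    (fun z => (r2 z).symm)
  -- over `T`
  obtain ⟨E'⟩ := Iface.nonempty_res 𝒯 (seg X Y hT).gr
  obtain ⟨θ, hθ⟩ := exists_equiv (C := AC hx X) (d := Ad hx X) hT (Ad_grHom hx X) Y mT (aR := irr 𝒜)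
    (aS := irr ℬ) (Ad_Ad hx X) (fun t ht => psi_irr hT (by rw [← hmT]; exact ht))
    (fun p v => Ho_tors hx X (IsNoetherian.noetherian (irr 𝒜)) hrad p v)
    (van_seg hT mT hx X Y hy hyY (fun t ht => by rw [hmT]; exact mem_irr_of_mem 𝒯 hDpos ht)) E' q
  have hdeg : GrLC.IsGrHomDeg 𝒬 (seg X Y hT).gr (segEquiv hT hP).toLinearMap 0 := fun n p hp => by
    rw [add_zero]; exact (segEquiv_mem_iff hT hP p n).2 hp
  let H1 : EP.H mT q ≃ₗ[T] E'.H mT q := Iface.Hequiv EP E' mT q (segEquiv hT hP) hdeg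
  have hH1 : ∀ (y : EP.H mT q) (n : ℤ), H1 y ∈ E'.Hcomp mT q n ↔ y ∈ EP.Hcomp mT q n := by
    intro y n
    have := Iface.Hequiv_mem_iff EP E' mT q (segEquiv hT hP) hdeg (g := n) y
    rwa [add_zero] at this
  let Θ : EP.H mT q ≃ₗ[T] (seg (Ho (Ad_grHom hx X) q) Y hT).carrier := H1 ≪≫ₗ θ
  have hΘ : ∀ (y : EP.H mT q) (n : ℤ),
      Θ y ∈ (seg (Ho (Ad_grHom hx X) q) Y hT).gr n ↔ y ∈ EP.Hcomp mT q n := fun y n =>
    (hθ (H1 y) n).symm.trans (hH1 y n)
  -- the tensor map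
  let F : (Ho (Ad_grHom hx X) q).carrier ⊗[k] N →ₗ[k] EM.H mR q ⊗[k] N :=
    (eR.toLinearMap.restrictScalars k).rTensor N
  have hF : Function.Injective F := Module.Flat.rTensor_preserves_injective_linearMap (M := N)
    (eR.toLinearMap.restrictScalars k) eR.injective
  have heRmem : ∀ (v : (Ho (Ad_grHom hx X) q).carrier) (n : ℤ), v ∈ (Ho (Ad_grHom hx X) q).gr n →
      eR v ∈ EM.Hgr mR q n := by
    intro v n hv
    obtain ⟨z, hz, rfl⟩ := exists_hpi_eq (Ad_grHom hx X) hv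
    rw [heR]
    exact r3 n z hz
  have heRex : ∀ (y : EM.H mR q) (n : ℤ), y ∈ EM.Hgr mR q n →
      ∃ v ∈ (Ho (Ad_grHom hx X) q).gr n, eR v = y := by
    intro y n hy
    obtain ⟨z, hz, rfl⟩ := r4 n y hy
    exact ⟨hpi (Ad_grHom hx X) q z, hpi_grHom (Ad_grHom hx X) q n z hz, heR z⟩
  refine ⟨F ∘ₗ segφ (Ho (Ad_grHom hx X) q) Y hT ∘ₗ Θ.toLinearMap.restrictScalars k, ?_, ?_, ?_⟩
  · exact hF.comp ((isSegreMod_seg (Ho (Ad_grHom hx X) q) Y hT).injective.comp Θ.injective)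
  · intro n
    ext w
    constructor
    · rintro ⟨y, hy, rfl⟩
      have h1 : Θ y ∈ (seg (Ho (Ad_grHom hx X) q) Y hT).gr n := (hΘ y n).2 hy
      have h2 : segφ (Ho (Ad_grHom hx X) q) Y hT (Θ y) ∈
        GrSeg.segrePiece k (kg (Ho (Ad_grHom hx X) q)) (kg Y) n := h1
      change F (segφ (Ho (Ad_grHom hx X) q) Y hT (Θ y)) ∈ GrSeg.segrePiece k (EM.Hgr mR q) 𝒩 n
      generalize segφ (Ho (Ad_grHom hx X) q) Y hT (Θ y) = z at h2
      induction h2 using Submodule.span_induction with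
      | mem z hz =>
        obtain ⟨a, ha, b, hb, rfl⟩ := hz
        exact Submodule.subset_span ⟨eR a, heRmem a n ha, b, hb, rfl⟩
      | zero => rw [map_zero]; exact zero_mem _
      | add z z' _ _ h h' => rw [map_add]; exact add_mem h h'
      | smul c z _ h => rw [map_smul]; exact Submodule.smul_mem _ _ h
    · intro hw
      have h2 : w ∈ GrSeg.segrePiece k (EM.Hgr mR q) 𝒩 n := hw
      have h3 : ∃ z ∈ GrSeg.segrePiece k (kg (Ho (Ad_grHom hx X) q)) (kg Y) n, F z = w := by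
        clear hw
        induction h2 using Submodule.span_induction with
        | mem z hz =>
          obtain ⟨a, ha, b, hb, rfl⟩ := hz
          obtain ⟨v, hv, rfl⟩ := heRex a n ha
          exact ⟨v ⊗ₜ b, Submodule.subset_span ⟨v, hv, b, hb, rfl⟩, rfl⟩
        | zero => exact ⟨0, zero_mem _, map_zero _⟩
        | add z z' _ _ h h' =>
          obtain ⟨y, hy, rfl⟩ := h
          obtain ⟨y', hy', rfl⟩ := h'
          exact ⟨y + y', add_mem hy hy', map_add _ _ _⟩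
        | smul c z _ h =>
          obtain ⟨y, hy, rfl⟩ := h
          exact ⟨c • y, Submodule.smul_mem _ _ hy, map_smul _ _ _⟩
      obtain ⟨z, hz, rfl⟩ := h3
      obtain ⟨p, hp, rfl⟩ := exists_phi_eq (isSegreMod_seg (Ho (Ad_grHom hx X) q) Y hT) hz
      refine ⟨Θ.symm p, ?_, ?_⟩
      · have h4 := hΘ (Θ.symm p) n
        rw [Θ.apply_symm_apply] at h4
        exact h4.1 hp
      · change F (segφ (Ho (Ad_grHom hx X) q) Y hT (Θ (Θ.symm p))) = _
        rw [Θ.apply_symm_apply]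
  · intro t p
    change F (segφ (Ho (Ad_grHom hx X) q) Y hT (Θ (t • p))) = _
    rw [map_smul, (isSegreMod_seg (Ho (Ad_grHom hx X) q) Y hT).map_smul]
    exact map_act (k := k) eR.toLinearMap (LinearMap.id : N →ₗ[S] N) (ψ t)
      (segφ (Ho (Ad_grHom hx X) q) Y hT (Θ p))

end

end K963.Bij
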