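import Groth.Agent.GrSegre.K963.Low
import Groth.Agent.GrSegre.K961.CMH
import Groth.Agent.GrLC.K963.Loc
import Groth.Agent.GrSegre.K962.Dims

/-!
# Vanishing criteria for the local cohomology of a Segre product
-/

set_option autoImplicit false
set_option linter.unusedSectionVars false
set_option linter.style.haveILetI false
set_option warn.classDefReducibility false
universe u
open scoped TensorProduct DirectSum
open K759.Gr K759.GrObj K962.Basic K962.Pieces K962.KM K962.Seg K962.KData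
open K963.Low

namespace K963.Crit

section Dim

variable {k : Type u} [Field k] {R : Type u} [CommRing R] [Algebra k R]
  {𝒜 : ℤ → Submodule k R} [GradedAlgebra 𝒜] [Algebra.FiniteType k R]
  {M : Type u} [AddCommGroup M] [Module R M] [Module k M] [IsScalarTower k R M]
  {τ : Type u} [SetLike τ M] [AddSubgroupClass τ M]
  {ℳ : ℤ → τ} [DirectSum.Decomposition ℳ] [SetLike.GradedSMul 𝒜 ℳ]

/-- `H^i(M) = 0` for `i > dim M`. -/
theorem subsingleton_of_supportDim_lt [Module.Finite R M]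
    (hpos : ∀ n : ℤ, n < 0 → 𝒜 n = ⊥) (h0 : 𝒜 0 = Submodule.span k {(1 : R)})
    {r : ℕ} (hd : Module.supportDim R M ≤ r) (a : HomogeneousIdeal 𝒜)
    (ha : a.toIdeal = Ideal.span (⋃ n ∈ Set.Ioi (0 : ℤ), (𝒜 n : Set R))) (E : GrLC.StarInjRes 𝒜 ℳ)
    {i : ℕ} (hi : r < i) : Subsingleton (E.H a i) := by
  haveI : IsNoetherianRing R := Algebra.FiniteType.isNoetherianRing k R
  obtain ⟨D₀, hD₀, h⟩ := K961.SegDim2.exists_params 𝒜 (kp 𝒜 ℳ) hpos h0 r hd
  obtain ⟨x, hx, hxr⟩ := h 1 one_pos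
  rw [one_mul] at hx
  have hxa : ∀ i, x i ∈ a.toIdeal := fun i => by
    rw [ha]
    exact Ideal.subset_span (Set.mem_biUnion (show (D₀ : ℤ) ∈ Set.Ioi (0 : ℤ) from by simpa using hD₀) (hx i))
  refine K963.Iface.H_subsingleton_of_length_lt E a (List.ofFn x) ?_ ?_ (fun m => ?_) i (by simpa using hi)
  · intro y hy
    obtain ⟨i, rfl⟩ := (List.mem_ofFn' x y).1 hy
    exact ⟨_, hx i⟩
  · intro y hy
    obtain ⟨i, rfl⟩ := (List.mem_ofFn' x y).1 hy
    exact hxa i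
  · rw [ha]
    refine hxr.trans (Ideal.radical_mono (sup_le ?_ ?_))
    · refine le_trans ?_ le_sup_right
      intro r hr
      rw [Submodule.mem_annihilator_span_singleton]
      exact Module.mem_annihilator.1 hr m
    · refine le_trans (Ideal.span_mono ?_) le_sup_left
      rintro _ ⟨i, rfl⟩
      exact (List.mem_ofFn' x _).2 ⟨i, rfl⟩

end Dim

variable {k : Type u} [Field k] {R S T : Type u} [CommRing R] [Algebra k R] [CommRing S] [Algebra k S]
  [CommRing T] [Algebra k T]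
  {𝒜 : ℤ → Submodule k R} [GradedAlgebra 𝒜] {ℬ : ℤ → Submodule k S} [GradedAlgebra ℬ]
  {𝒯 : ℤ → Submodule k T} [GradedAlgebra 𝒯] {ψ : T →ₐ[k] R ⊗[k] S}
  {mR : HomogeneousIdeal 𝒜} {mS : HomogeneousIdeal ℬ} {mT : HomogeneousIdeal 𝒯}
  {M N P : Type u} [AddCommGroup M] [Module R M] [Module k M] [IsScalarTower k R M]
  [AddCommGroup N] [Module S N] [Module k N] [IsScalarTower k S N]
  [AddCommGroup P] [Module T P] [Module k P] [IsScalarTower k T P]
  {τM τN τQ : Type u} [SetLike τM M] [AddSubgroupClass τM M] [SetLike τN N] [AddSubgroupClass τN N]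
  [SetLike τQ P] [AddSubgroupClass τQ P]
  {ℳ : ℤ → τM} [DirectSum.Decomposition ℳ] [SetLike.GradedSMul 𝒜 ℳ]
  {𝒩 : ℤ → τN} [DirectSum.Decomposition 𝒩] [SetLike.GradedSMul ℬ 𝒩]
  {𝒬 : ℤ → τQ} [DirectSum.Decomposition 𝒬] [SetLike.GradedSMul 𝒯 𝒬]

section Side

variable {EM : GrLC.StarInjRes 𝒜 ℳ} {A : ℕ → KMod.{u} 𝒜} {ε : M →ₗ[R] (A 0).carrier}

theorem kg_succ_eq_bot_iff (h : Side0 EM mR A ε) (p : ℕ) (g : ℤ) :
    kg (A (p + 1)) g = ⊥ ↔ EM.Hcomp mR (p + 2) g = ⊥ := by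
  obtain ⟨θ, hθ⟩ := h.succ p
  rw [Submodule.eq_bot_iff, Submodule.eq_bot_iff]
  constructor
  · intro h y hy
    obtain ⟨y, rfl⟩ := θ.surjective y
    rw [h y ((hθ y g).2 hy), map_zero]
  · intro h y hy
    exact θ.injective ((h _ ((hθ y g).1 hy)).trans (map_zero θ).symm)

theorem kg_succ_eq_bot (h : Side0 EM mR A ε) (p : ℕ) (g : ℤ) (hs : Subsingleton (EM.H mR (p + 2))) :
    kg (A (p + 1)) g = ⊥ :=
  (kg_succ_eq_bot_iff h p g).2 (K963.Iface.Hcomp_eq_bot_of_subsingleton EM mR (p + 2) hs g)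

theorem ε_injective (h : Side0 EM mR A ε) (h0 : Subsingleton (EM.H mR 0)) : Function.Injective ε := by
  rw [injective_iff_map_eq_zero]
  intro m hm
  have hm' := (h.ker m).1 hm
  have : (⟨m, hm'⟩ : GrLC.gam mR.toIdeal M) = 0 :=
    (K963.Iface.H0equiv EM mR).injective (Subsingleton.elim _ _)
  exact congrArg Subtype.val this

theorem ε_surjective (h : Side0 EM mR A ε) (h1 : Subsingleton (EM.H mR 1)) : Function.Surjective ε := by
  obtain ⟨δ, hs, hk, -, -⟩ := h.delta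
  exact fun z => (hk z).1 (Subsingleton.elim _ _)

/-- a graded piece of `H¹(M)` vanishes iff the piece of `A 0` comes from `M`. -/
theorem Hcomp_one_eq_bot_iff (h : Side0 EM mR A ε) (g : ℤ) :
    EM.Hcomp mR 1 g = ⊥ ↔ ∀ z ∈ (A 0).gr g, ∃ m ∈ ℳ g, ε m = z := by
  obtain ⟨δ, hs, hk, hg, hl⟩ := h.delta
  constructor
  · intro hb z hz
    have h1 := hg z g hz
    rw [hb, Submodule.mem_bot, hk] at h1
    obtain ⟨m, rfl⟩ := h1
    refine ⟨(DirectSum.decompose ℳ m g : M), (DirectSum.decompose ℳ m g).2, ?_⟩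
    have h2 := K963.Dec.map_proj ℳ (A 0).gr ε h.gr g m
    refine h2.trans ?_
    exact K963.Dec.proj_of_mem (A 0).gr hz
  · intro hz
    rw [Submodule.eq_bot_iff]
    intro y hy
    obtain ⟨z, hzg, rfl⟩ := hl g y hy
    obtain ⟨m, -, rfl⟩ := hz z hzg
    exact (hk _).2 ⟨m, rfl⟩

/-- if `H⁰ = H¹ = 0` then `A 0 = M`. -/
theorem kg_zero_eq_bot_iff (h : Side0 EM mR A ε) (h0 : Subsingleton (EM.H mR 0)) (h1 : Subsingleton (EM.H mR 1))
    (g : ℤ) : kg (A 0) g = ⊥ ↔ ∀ m ∈ ℳ g, m = 0 := by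
  have hi := ε_injective h h0
  rw [Submodule.eq_bot_iff]
  constructor
  · intro hb m hm
    exact hi ((hb _ (h.gr g m hm)).trans (map_zero ε).symm)
  · intro hb z hz
    obtain ⟨m, hm, rfl⟩ := (Hcomp_one_eq_bot_iff h g).1
      (K963.Iface.Hcomp_eq_bot_of_subsingleton EM mR 1 h1 g) z hz
    rw [hb m hm, map_zero]

end Side

section Seg

variable {EM : GrLC.StarInjRes 𝒜 ℳ} {EN : GrLC.StarInjRes ℬ 𝒩} {EP : GrLC.StarInjRes 𝒯 𝒬}
  {A : ℕ → KMod.{u} 𝒜} {B : ℕ → KMod.{u} ℬ} {ε : M →ₗ[R] (A 0).carrier} {η : N →ₗ[S] (B 0).carrier}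

/-- the graded pieces of `H^{n+2}(M # N)` vanish iff all Künneth terms vanish. -/
theorem Hcomp_eq_bot_iff {n : ℕ} (h : ∃ κ : EP.H mT (n + 2) →ₗ[T] (∀ p q : ℕ, TT ψ (A p).carrier (B q).carrier),
      Function.Injective κ ∧
      (∀ z p q, p + q ≠ n + 1 → κ z p q = 0) ∧
      (∀ z i, z ∈ EP.Hcomp mT (n + 2) i → ∀ p q, toTT.symm (κ z p q) ∈
        GrSeg.segrePiece k (kg (A p)) (kg (B q)) i) ∧
      (∀ i (ω : ∀ p q : ℕ, TT ψ (A p).carrier (B q).carrier), (∀ p q, p + q ≠ n + 1 → ω p q = 0) →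
        (∀ p q, toTT.symm (ω p q) ∈ GrSeg.segrePiece k (kg (A p)) (kg (B q)) i) →
        ∃ z ∈ EP.Hcomp mT (n + 2) i, κ z = ω)) (g : ℤ) :
    EP.Hcomp mT (n + 2) g = ⊥ ↔ ∀ p q : ℕ, p + q = n + 1 → kg (A p) g = ⊥ ∨ kg (B q) g = ⊥ := by
  obtain ⟨κ, h1, h2, h3, h4⟩ := h
  constructor
  · intro hb p q hpq
    rw [← K962.Dims.segrePiece_eq_bot_iff, Submodule.eq_bot_iff]
    intro w hw
    let ω : ∀ p q : ℕ, TT ψ (A p).carrier (B q).carrier :=
      Pi.single (M := fun p => ∀ q : ℕ, TT ψ (A p).carrier (B q).carrier) p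
        (Pi.single (M := fun q => TT ψ (A p).carrier (B q).carrier) q (toTT w))
    have hω : ω p q = toTT w := by
      show Pi.single (M := fun p => ∀ q : ℕ, TT ψ (A p).carrier (B q).carrier) p _ p q = _
      rw [Pi.single_eq_same, Pi.single_eq_same]
    have hω0 : ∀ p' q', ¬ (p' = p ∧ q' = q) → ω p' q' = 0 := by
      intro p' q' hpq
      show Pi.single (M := fun p => ∀ q : ℕ, TT ψ (A p).carrier (B q).carrier) p _ p' q' = _
      by_cases hp : p' = p
      · subst hp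
        rw [Pi.single_eq_same, Pi.single_eq_of_ne (fun h => hpq ⟨rfl, h⟩)]
      · rw [Pi.single_eq_of_ne hp]; rfl
    obtain ⟨z, hz, hze⟩ := h4 g ω (fun p' q' hpq' => hω0 p' q' (fun h => hpq' (by omega))) (fun p' q' => by
      by_cases hpq' : p' = p ∧ q' = q
      · obtain ⟨rfl, rfl⟩ := hpq'
        rw [hω, LinearEquiv.symm_apply_apply]; exact hw
      · rw [hω0 p' q' hpq', map_zero]; exact zero_mem _)
    rw [hb, Submodule.mem_bot] at hz
    rw [hz, map_zero] at hze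
    have : toTT w = (0 : TT ψ (A p).carrier (B q).carrier) := hω.symm.trans (congrFun (congrFun hze p) q).symm
    exact toTT.injective (this.trans (map_zero _).symm)
  · intro hb
    rw [Submodule.eq_bot_iff]
    intro z hz
    apply h1
    rw [map_zero]
    funext p q
    by_cases hpq : p + q = n + 1
    · have h5 := h3 z g hz p q
      rw [(K962.Dims.segrePiece_eq_bot_iff _ _ g).2 (hb p q hpq), Submodule.mem_bot] at h5
      exact toTT.symm.injective (h5.trans (map_zero _).symm)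
    · exact h2 z p q hpq

/-- `H⁰(M # N) = 0` if the augmentations are injective -/
theorem subsingleton_zero {φ : P →ₗ[k] M ⊗[k] N} (hφ : Function.Injective φ)
    (h : Subsingleton (EP.H mT 0) ↔ ∀ w : P, TensorProduct.map (ε.restrictScalars k) (η.restrictScalars k) (φ w) = 0 →
        w = 0) (hε : Function.Injective ε) (hη : Function.Injective η) : Subsingleton (EP.H mT 0) := by
  rw [h]
  intro w hw
  have hi : Function.Injective (TensorProduct.map (ε.restrictScalars k) (η.restrictScalars k)) := by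
    have e : TensorProduct.map (ε.restrictScalars k) (η.restrictScalars k) =
      (ε.restrictScalars k).rTensor _ ∘ₗ (η.restrictScalars k).lTensor _ := by
      ext; rfl
    rw [e]
    exact (Module.Flat.rTensor_preserves_injective_linearMap (ε.restrictScalars k) hε).comp
      (Module.Flat.lTensor_preserves_injective_linearMap (η.restrictScalars k) hη)
  exact hφ ((hi (hw.trans (map_zero _).symm)).trans (map_zero φ).symm)

end Seg

section Two

variable {EM : GrLC.StarInjRes 𝒜 ℳ} {EN : GrLC.StarInjRes ℬ 𝒩} {EP : GrLC.StarInjRes 𝒯 𝒬}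
  {A : ℕ → KMod.{u} 𝒜} {B : ℕ → KMod.{u} ℬ} {ε : M →ₗ[R] (A 0).carrier} {η : N →ₗ[S] (B 0).carrier}

/-- `H¹(M # N)_g = 0` if every homogeneous tensor of degree `g` in `A 0 # B 0` comes from `M # N`. -/
theorem Hcomp_one_of {φ : P →ₗ[k] M ⊗[k] N} (hP : GrSeg.IsSegreMod ψ ℳ 𝒩 𝒬 φ)
    (h : ∀ g, EP.Hcomp mT 1 g = ⊥ ↔ ∀ ω ∈ GrSeg.segrePiece k (kg (A 0)) (kg (B 0)) g,
        ∃ w : P, TensorProduct.map (ε.restrictScalars k) (η.restrictScalars k) (φ w) = ω) {g : ℤ}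
    (hg : ∀ x ∈ (A 0).gr g, ∀ y ∈ (B 0).gr g, x ≠ 0 → y ≠ 0 → ∃ m ∈ ℳ g, ∃ n ∈ 𝒩 g, ε m = x ∧ η n = y) :
    EP.Hcomp mT 1 g = ⊥ := by
  rw [h]
  intro ω hω
  have hsub : GrSeg.segrePiece k (kg (A 0)) (kg (B 0)) g ≤
      LinearMap.range (TensorProduct.map (ε.restrictScalars k) (η.restrictScalars k) ∘ₗ φ) := by
    rw [GrSeg.segrePiece, Submodule.span_le]
    rintro _ ⟨x, hx, y, hy, rfl⟩
    by_cases hx0 : x = 0
    · rw [hx0, TensorProduct.zero_tmul]; exact zero_mem _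
    by_cases hy0 : y = 0
    · rw [hy0, TensorProduct.tmul_zero]; exact zero_mem _
    obtain ⟨m, hm, n, hn, rfl, rfl⟩ := hg x hx y hy hx0 hy0
    have h1 : m ⊗ₜ[k] n ∈ GrSeg.segrePiece k ℳ 𝒩 g := Submodule.subset_span ⟨m, hm, n, hn, rfl⟩
    obtain ⟨w, -, hw⟩ := (Set.ext_iff.1 (hP.image_piece g) _).2 h1
    exact ⟨w, by rw [LinearMap.comp_apply, hw]; rfl⟩
  exact hsub hω

end Two

end K963.Crit
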