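import Groth.Agent.GrSegre.K963.Crit
import Groth.Agent.GrLC.K759.VanIff

/-!
# Local cohomology of a Segre product of modules with only one local cohomology module; depth
-/

set_option autoImplicit false
set_option linter.unusedSectionVars false
set_option linter.style.haveILetI false
set_option linter.overlappingInstances false
set_option warn.classDefReducibility false
universe u
open scoped TensorProduct DirectSum
open K759.Gr K759.GrObj K962.Basic K962.Pieces K962.KM K962.Seg K962.KData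
open K963.Low K963.Crit

namespace K963.Crit2

section Depth

variable {k : Type u} [Field k] {R : Type u} [CommRing R] [Algebra k R]
  {𝒜 : ℤ → Submodule k R} [GradedAlgebra 𝒜] [Algebra.FiniteType k R]
  {M : Type u} [AddCommGroup M] [Module R M] [Module k M] [IsScalarTower k R M]
  {τ : Type u} [SetLike τ M] [AddSubgroupClass τ M]
  {ℳ : ℤ → τ} [DirectSum.Decomposition ℳ] [SetLike.GradedSMul 𝒜 ℳ]

/-- the irrelevant ideal does not kill `M ⊗ k`. -/
theorem smul_top_ne_top [Module.Finite R M] [Nontrivial M] [Nontrivial R]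
    (hpos : ∀ n : ℤ, n < 0 → 𝒜 n = ⊥) (h0 : 𝒜 0 = Submodule.span k {(1 : R)})
    (a : Ideal R) (ha : a = Ideal.span (⋃ n ∈ Set.Ioi (0 : ℤ), (𝒜 n : Set R)))
    (ℳ : ℤ → τ) [DirectSum.Decomposition ℳ] [SetLike.GradedSMul 𝒜 ℳ] :
    a • (⊤ : Submodule R M) ≠ ⊤ := by
  haveI : IsNoetherianRing R := Algebra.FiniteType.isNoetherianRing k R
  have hm := K961.Irr.isMaximal_irr 𝒜 hpos h0
  have hp : (K961.Irr.irr 𝒜).IsPrime := hm.isPrime
  have hsupp := K961.CM.mem_support_irr (M := M) hpos h0 (kp 𝒜 ℳ)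
  rw [Module.mem_support_iff_of_finite] at hsupp
  intro h
  obtain ⟨r, hr, hr0⟩ := Submodule.exists_sub_one_mem_and_smul_eq_zero_of_fg_of_le_smul a
    (⊤ : Submodule R M) Module.Finite.fg_top h.ge
  have h1 : r ∈ K961.Irr.irr 𝒜 := hsupp (Module.mem_annihilator.2 fun m => hr0 m Submodule.mem_top)
  have h2 : r - 1 ∈ K961.Irr.irr 𝒜 := by rw [ha] at hr; exact hr
  have h3 := (K961.Irr.irr 𝒜).sub_mem h1 h2
  rw [sub_sub_cancel] at h3
  exact hp.ne_top ((Ideal.eq_top_iff_one _).2 h3)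

/-- the depth is the first degree with non-zero local cohomology. -/
theorem idealDepth_eq [Module.Finite R M] [Nontrivial M] [Nontrivial R]
    (hpos : ∀ n : ℤ, n < 0 → 𝒜 n = ⊥) (h0 : 𝒜 0 = Submodule.span k {(1 : R)})
    (a : HomogeneousIdeal 𝒜) (ha : a.toIdeal = Ideal.span (⋃ n ∈ Set.Ioi (0 : ℤ), (𝒜 n : Set R)))
    (E : GrLC.StarInjRes 𝒜 ℳ) (n : ℕ) (h1 : ∀ i < n, Subsingleton (E.H a i))
    (h2 : ¬ Subsingleton (E.H a n)) : LocCoh.idealDepth a.toIdeal M = n := by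
  haveI : IsNoetherianRing R := Algebra.FiniteType.isNoetherianRing k R
  rw [Groth.Agent.Localalg.DepthLC.idealDepth_eq_iff_localCohomology a.toIdeal M
    (smul_top_ne_top hpos h0 a.toIdeal ha ℳ) n]
  refine ⟨fun i hi => ?_, ?_⟩
  · obtain ⟨e⟩ := K759.AcycInj.nonempty_equiv E a i
    rw [← e.toEquiv.subsingleton_congr]
    exact h1 i hi
  · obtain ⟨e⟩ := K759.AcycInj.nonempty_equiv E a n
    rw [← not_subsingleton_iff_nontrivial, ← e.toEquiv.subsingleton_congr]
    exact h2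

end Depth

variable {k : Type u} [Field k] {R S T : Type u} [CommRing R] [Algebra k R] [CommRing S] [Algebra k S]
  [CommRing T] [Algebra k T]
  {𝒜 : ℤ → Submodule k R} [GradedAlgebra 𝒜] {ℬ : ℤ → Submodule k S} [GradedAlgebra ℬ]
  {𝒯 : ℤ → Submodule k T} [GradedAlgebra 𝒯] {ψ : T →ₐ[k] R ⊗[k] S}
  {mR : HomogeneousIdeal 𝒜} {mS : HomogeneousIdeal ℬ} {mT : HomogeneousIdeal 𝒯}
  {M N P : Type u} [AddCommGroup M] [Module R M] [Module k M] [IsScalarTower k R M]
  [AddCommGroup N] [Module S N] [Module k N] [IsScalarTower k S N]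
  [AddCommGroup P] [Module T P] [Module k P] [IsScalarTower k T P]
  {τM τN τQ : Type u} [SetLike τM M] [AddSubgroupClass τM M] [SetLike τN N] [AddSubgroupClass τN N]
  [SetLike τQ P] [AddSubgroupClass τQ P]
  {ℳ : ℤ → τM} [DirectSum.Decomposition ℳ] [SetLike.GradedSMul 𝒜 ℳ]
  {𝒩 : ℤ → τN} [DirectSum.Decomposition 𝒩] [SetLike.GradedSMul ℬ 𝒩]
  {𝒬 : ℤ → τQ} [DirectSum.Decomposition 𝒬] [SetLike.GradedSMul 𝒯 𝒬]
  [Algebra.FiniteType k R] [Algebra.FiniteType k S]
  (hT : GrSeg.IsSegreRing 𝒜 ℬ 𝒯 ψ)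
  (hmR : mR.toIdeal = Ideal.span (⋃ n ∈ Set.Ioi (0 : ℤ), (𝒜 n : Set R)))
  (hmS : mS.toIdeal = Ideal.span (⋃ n ∈ Set.Ioi (0 : ℤ), (ℬ n : Set S)))
  (hmT : mT.toIdeal = Ideal.span (⋃ n ∈ Set.Ioi (0 : ℤ), (𝒯 n : Set T)))
  {φ : P →ₗ[k] M ⊗[k] N} (hP : GrSeg.IsSegreMod ψ ℳ 𝒩 𝒬 φ)
  (EM : GrLC.StarInjRes 𝒜 ℳ) (EN : GrLC.StarInjRes ℬ 𝒩) (EP : GrLC.StarInjRes 𝒯 𝒬)
include hT hmR hmS hmT hP EM EN

/-- Local cohomology of `M # N` when `M`, `N` have only the local cohomology modules `H^r(M)`, `H^s(N)`,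
`r, s ≥ 2`. -/
theorem Hcomp_iff_two {r s : ℕ} (h2r : 2 ≤ r) (h2s : 2 ≤ s)
    (hM : ∀ i, i ≠ r → Subsingleton (EM.H mR i)) (hN : ∀ i, i ≠ s → Subsingleton (EN.H mS i)) (i : ℕ) (d : ℤ) :
    EP.Hcomp mT i d = ⊥ ↔ (i = s → (∀ m ∈ ℳ d, m = 0) ∨ EN.Hcomp mS s d = ⊥) ∧
      (i = r → EM.Hcomp mR r d = ⊥ ∨ (∀ n ∈ 𝒩 d, n = 0)) ∧
      (i + 1 = r + s → EM.Hcomp mR r d = ⊥ ∨ EN.Hcomp mS s d = ⊥) := by
  obtain ⟨A, B, ε, η, hA, hB, z0, z1, zk⟩ := K963.Low.kunneth0 hT hmR hmS hmT hP EM EN EP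
  have hA0 := K963.Crit.kg_zero_eq_bot_iff hA (hM 0 (by omega)) (hM 1 (by omega))
  have hB0 := K963.Crit.kg_zero_eq_bot_iff hB (hN 0 (by omega)) (hN 1 (by omega))
  match i with
  | 0 =>
    refine ⟨fun _ => ⟨fun h => by omega, fun h => by omega, fun h => by omega⟩, fun _ => ?_⟩
    exact K963.Iface.Hcomp_eq_bot_of_subsingleton EP mT 0
        (K963.Crit.subsingleton_zero hP.injective z0 (K963.Crit.ε_injective hA (hM 0 (by omega)))
          (K963.Crit.ε_injective hB (hN 0 (by omega)))) d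
  | 1 =>
    refine ⟨fun _ => ⟨fun h => by omega, fun h => by omega, fun h => by omega⟩, fun _ => ?_⟩
    refine K963.Crit.Hcomp_one_of hP z1 fun x hx y hy _ _ => ?_
    obtain ⟨m, hm, hmx⟩ := (K963.Crit.Hcomp_one_eq_bot_iff hA d).1
      (K963.Iface.Hcomp_eq_bot_of_subsingleton EM mR 1 (hM 1 (by omega)) d) x hx
    obtain ⟨n, hn, hny⟩ := (K963.Crit.Hcomp_one_eq_bot_iff hB d).1
      (K963.Iface.Hcomp_eq_bot_of_subsingleton EN mS 1 (hN 1 (by omega)) d) y hy
    exact ⟨m, hm, n, hn, hmx, hny⟩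
  | n + 2 =>
    rw [K963.Crit.Hcomp_eq_bot_iff (g := d) (zk n)]
    constructor
    · intro h
      refine ⟨fun hs => ?_, fun hr => ?_, fun hrs => ?_⟩
      · subst hs
        have h1 := h 0 (n + 1) (by omega)
        rwa [hA0, K963.Crit.kg_succ_eq_bot_iff hB] at h1
      · subst hr
        have h1 := h (n + 1) 0 (by omega)
        rwa [hB0, K963.Crit.kg_succ_eq_bot_iff hA] at h1
      · obtain ⟨r, rfl⟩ : ∃ r', r = r' + 2 := ⟨r - 2, by omega⟩
        obtain ⟨s, rfl⟩ : ∃ s', s = s' + 2 := ⟨s - 2, by omega⟩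
        have h1 := h (r + 1) (s + 1) (by omega)
        rwa [K963.Crit.kg_succ_eq_bot_iff hA, K963.Crit.kg_succ_eq_bot_iff hB] at h1
    · rintro ⟨h1, h2, h3⟩ p q hpq
      match p, q, hpq with
      | 0, 0, hpq => omega
      | 0, q + 1, hpq =>
        by_cases hq : q + 2 = s
        · subst hq
          rw [hA0, K963.Crit.kg_succ_eq_bot_iff hB]
          exact h1 (by omega)
        · exact Or.inr (K963.Crit.kg_succ_eq_bot hB q d (hN _ hq))
      | p + 1, 0, hpq =>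
        by_cases hp : p + 2 = r
        · subst hp
          rw [hB0, K963.Crit.kg_succ_eq_bot_iff hA]
          exact h2 (by omega)
        · exact Or.inl (K963.Crit.kg_succ_eq_bot hA p d (hM _ hp))
      | p + 1, q + 1, hpq =>
        by_cases hq : q + 2 = s
        · by_cases hp : p + 2 = r
          · subst hp hq
            rw [K963.Crit.kg_succ_eq_bot_iff hA, K963.Crit.kg_succ_eq_bot_iff hB]
            exact h3 (by omega)
          · exact Or.inl (K963.Crit.kg_succ_eq_bot hA p d (hM _ hp))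
        · exact Or.inr (K963.Crit.kg_succ_eq_bot hB q d (hN _ hq))

/-- Local cohomology of `M # N` in degrees `< s` when `M` has only `H^1(M)` and `N` only `H^s(N)`, `s ≥ 2`. -/
theorem Hcomp_iff_one {s : ℕ} (h2s : 2 ≤ s)
    (hM : ∀ i, i ≠ 1 → Subsingleton (EM.H mR i)) (hN : ∀ i, i ≠ s → Subsingleton (EN.H mS i)) (i : ℕ) (hi : i < s)
    (d : ℤ) :
    EP.Hcomp mT i d = ⊥ ↔ (i = 1 → EM.Hcomp mR 1 d = ⊥ ∨ (∀ n ∈ 𝒩 d, n = 0)) := by
  obtain ⟨A, B, ε, η, hA, hB, z0, z1, zk⟩ := K963.Low.kunneth0 hT hmR hmS hmT hP EM EN EP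
  have hηi := K963.Crit.ε_injective hB (hN 0 (by omega))
  match i, hi with
  | 0, _ =>
    refine ⟨fun _ h => by omega, fun _ => ?_⟩
    exact K963.Iface.Hcomp_eq_bot_of_subsingleton EP mT 0
        (K963.Crit.subsingleton_zero hP.injective z0 (K963.Crit.ε_injective hA (hM 0 (by omega)))
          (K963.Crit.ε_injective hB (hN 0 (by omega)))) d
  | 1, _ =>
    constructor
    · intro h _
      have h1 := (z1 d).1 h
      by_contra hcon
      push Not at hcon
      obtain ⟨hc1, n, hn, hn0⟩ := hcon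
      refine hc1 ((K963.Crit.Hcomp_one_eq_bot_iff hA d).2 fun x hx => ?_)
      obtain ⟨w, hw⟩ := h1 (x ⊗ₜ η n) (Submodule.subset_span ⟨x, hx, η n, hB.gr d n hn, rfl⟩)
      have h3 : (LinearMap.range (ε.restrictScalars k)).mkQ x ⊗ₜ[k] η n = 0 := by
        have h4 : ∀ u : M ⊗[k] N, TensorProduct.map (LinearMap.range (ε.restrictScalars k)).mkQ LinearMap.id
            (TensorProduct.map (ε.restrictScalars k) (η.restrictScalars k) u) = 0 := by
          intro u
          induction u using TensorProduct.induction_on with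
          | zero => simp
          | add x y hx hy => rw [map_add, map_add, hx, hy, add_zero]
          | tmul x y =>
            rw [TensorProduct.map_tmul, TensorProduct.map_tmul, Submodule.mkQ_apply,
              (Submodule.Quotient.mk_eq_zero (LinearMap.range (ε.restrictScalars k))).2 ⟨x, rfl⟩,
              TensorProduct.zero_tmul]
        have h5 := h4 (φ w)
        rw [hw] at h5
        exact h5
      have h6 : (LinearMap.range (ε.restrictScalars k)).mkQ x = 0 := by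
        by_contra hx0
        exact K962.Dims.tmul_ne_zero hx0 (fun h0 => hn0 (hηi (h0.trans (map_zero η).symm))) h3
      obtain ⟨m, hm⟩ := (Submodule.Quotient.mk_eq_zero (LinearMap.range (ε.restrictScalars k))).1 h6
      refine ⟨K963.Dec.proj ℳ d m, K963.Dec.proj_mem ℳ d m, ?_⟩
      rw [K963.Dec.map_proj ℳ (A 0).gr ε hA.gr d m]
      have h7 : ε m = x := hm
      rw [h7]
      exact K963.Dec.proj_of_mem (A 0).gr hx
    · intro h
      refine K963.Crit.Hcomp_one_of hP z1 fun x hx y hy _ hy0 => ?_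
      obtain ⟨n, hn, hny⟩ := (K963.Crit.Hcomp_one_eq_bot_iff hB d).1
        (K963.Iface.Hcomp_eq_bot_of_subsingleton EN mS 1 (hN 1 (by omega)) d) y hy
      rcases h rfl with h | h
      · obtain ⟨m, hm, hmx⟩ := (K963.Crit.Hcomp_one_eq_bot_iff hA d).1 h x hx
        exact ⟨m, hm, n, hn, hmx, hny⟩
      · exfalso
        rw [h n hn, map_zero] at hny
        exact hy0 hny.symm
  | n + 2, hi =>
    refine ⟨fun _ h => by omega, fun _ => ?_⟩
    rw [K963.Crit.Hcomp_eq_bot_iff (g := d) (zk n)]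
    intro p q hpq
    match p, q, hpq with
    | 0, 0, hpq => omega
    | 0, q + 1, hpq => exact Or.inr (K963.Crit.kg_succ_eq_bot hB q d (hN _ (by omega)))
    | p + 1, q, hpq => exact Or.inl (K963.Crit.kg_succ_eq_bot hA p d (hM _ (by omega)))

end K963.Crit2
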