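import Groth.Agent.GrSegre.K962.VanK
import Groth.Agent.GrSegre.K962.Coh
import Groth.Agent.GrSegre.K962.Res
import Groth.Agent.GrLC.K963.Iface
import Mathlib.RingTheory.Flat.Basic

/-!
# Exactness of the Segre product in the first variable; graded local cohomology of `M # N` when some
`g ∈ S_e` acts bijectively on `N`.
-/

set_option autoImplicit false
set_option linter.unusedSectionVars false
set_option linter.unusedVariables false
set_option linter.style.haveILetI false
set_option warn.classDefReducibility false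
universe u
open scoped TensorProduct DirectSum
open K759.Gr K759.GrObj K962.Basic K962.Pieces K962.KM K962.Seg K962.Tot K962.TotK K962.TotTors K962.Van
open K962.VanK K962.Coh

namespace K963.Fun

variable {k : Type u} [Field k] {R S T : Type u} [CommRing R] [Algebra k R] [CommRing S] [Algebra k S]
  [CommRing T] [Algebra k T]
  {𝒜 : ℤ → Submodule k R} [GradedAlgebra 𝒜] {ℬ : ℤ → Submodule k S} [GradedAlgebra ℬ]
  {𝒯 : ℤ → Submodule k T} [GradedAlgebra 𝒯] {ψ : T →ₐ[k] R ⊗[k] S} (hT : GrSeg.IsSegreRing 𝒜 ℬ 𝒯 ψ)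

theorem idGr (Y : KMod.{u} ℬ) : GrLC.IsGrHom Y.gr Y.gr (LinearMap.id : Y.carrier →ₗ[S] Y.carrier) :=
  fun _ _ h => h

section Exact

variable {X X' X'' : KMod.{u} 𝒜} (Y : KMod.{u} ℬ) {f : X.carrier →ₗ[R] X'.carrier}
  {g : X'.carrier →ₗ[R] X''.carrier} (hf : GrLC.IsGrHom X.gr X'.gr f) (hg : GrLC.IsGrHom X'.gr X''.gr g)

/-- The value of `segMap f id`. -/
theorem segMap_val' (w : (seg X Y hT).carrier) :
    toTT.symm (show segSub X' Y hT from segMap hT hf (idGr Y) w).1 =
      (f.restrictScalars k).rTensor Y.carrier (toTT.symm (show segSub X Y hT from w).1) := rfl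

theorem segMap_ext {w w' : (seg X Y hT).carrier}
    (h : toTT.symm (show segSub X Y hT from w).1 = toTT.symm (show segSub X Y hT from w').1) : w = w' :=
  Subtype.ext (toTT.symm.injective h)

/-- An element of the Segre product from a tensor. -/
noncomputable def segMk (y : X.carrier ⊗[k] Y.carrier) : (seg X Y hT).carrier :=
  (⟨toTT (dg (kg X) (kg Y) y), (mem_segSub X Y hT).2 (by
    rw [LinearEquiv.symm_apply_apply]; exact dg_dg _ _ _)⟩ : segSub X Y hT)

theorem segMk_val (y : X.carrier ⊗[k] Y.carrier) :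
    toTT.symm (show segSub X Y hT from segMk hT Y y).1 = dg (kg X) (kg Y) y := rfl

theorem dg_val (w : (seg X Y hT).carrier) : dg (kg X) (kg Y) (toTT.symm (show segSub X Y hT from w).1) =
    toTT.symm (show segSub X Y hT from w).1 := (mem_segSub X Y hT).1 (show segSub X Y hT from w).2

theorem segMap_eq_of {w : (seg X' Y hT).carrier} {y : X.carrier ⊗[k] Y.carrier}
    (h : (f.restrictScalars k).rTensor Y.carrier y = toTT.symm (show segSub X' Y hT from w).1) :
    segMap hT hf (idGr Y) (segMk hT Y y) = w := by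
  apply segMap_ext
  rw [segMap_val', segMk_val, ← dg_val hT Y w, ← h]
  exact (dg_map (kg X) (kg Y) (kg X') (kg Y) (f := f.restrictScalars k)
    (g := (LinearMap.id : Y.carrier →ₗ[k] Y.carrier)) hf (fun _ _ h => h) y).symm

theorem segMap_exact (hex : Function.Exact f g) :
    Function.Exact (segMap hT hf (idGr Y)) (segMap hT hg (idGr Y)) := by
  have hex' : Function.Exact (f.restrictScalars k) (g.restrictScalars k) := hex
  have hex2 := Module.Flat.rTensor_exact Y.carrier hex'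
  intro w
  constructor
  · intro h
    have h1 : (g.restrictScalars k).rTensor Y.carrier (toTT.symm (show segSub X' Y hT from w).1) = 0 := by
      rw [← segMap_val' hT Y hg w, h]; exact map_zero _
    obtain ⟨y, hy⟩ := (hex2 _).1 h1
    exact ⟨segMk hT Y y, segMap_eq_of hT Y hf hy⟩
  · rintro ⟨v, rfl⟩
    apply segMap_ext
    rw [segMap_val', segMap_val']
    exact ((hex2 _).2 ⟨_, rfl⟩).trans (map_zero _).symm

theorem segMap_injective (hinj : Function.Injective f) : Function.Injective (segMap hT hf (idGr Y)) := by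
  have h2 := Module.Flat.rTensor_preserves_injective_linearMap (M := Y.carrier) (f.restrictScalars k) hinj
  intro w w' h
  apply segMap_ext
  apply h2
  rw [← segMap_val' hT Y hf w, ← segMap_val' hT Y hf w', h]

theorem segMap_surjective (hsurj : Function.Surjective f) :
    Function.Surjective (segMap hT hf (idGr Y)) := by
  have h2 := LinearMap.rTensor_surjective Y.carrier (g := f.restrictScalars k) hsurj
  intro w
  obtain ⟨y, hy⟩ := h2 (toTT.symm (show segSub X' Y hT from w).1)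
  exact ⟨segMk hT Y y, segMap_eq_of hT Y hf hy⟩

/-- surjectivity on pieces -/
theorem exists_segMap_eq (hsurj : ∀ n, ∀ y ∈ X'.gr n, ∃ x ∈ X.gr n, f x = y) {n : ℤ}
    {w : (seg X' Y hT).carrier} (hw : w ∈ (seg X' Y hT).gr n) :
    ∃ v ∈ (seg X Y hT).gr n, segMap hT hf (idGr Y) v = w := by
  have key : ∀ z ∈ GrSeg.segrePiece k (kg X') (kg Y) n, ∃ y ∈ GrSeg.segrePiece k (kg X) (kg Y) n,
      (f.restrictScalars k).rTensor Y.carrier y = z := by
    intro z hz
    induction hz using Submodule.span_induction with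
    | mem z hz =>
      obtain ⟨a, ha, b, hb, rfl⟩ := hz
      obtain ⟨x, hx, rfl⟩ := hsurj n a ha
      exact ⟨x ⊗ₜ b, mem_segrePiece_tmul _ _ hx hb, rfl⟩
    | zero => exact ⟨0, zero_mem _, map_zero _⟩
    | add z z' _ _ h h' =>
      obtain ⟨y, hy, rfl⟩ := h
      obtain ⟨y', hy', rfl⟩ := h'
      exact ⟨y + y', add_mem hy hy', map_add _ _ _⟩
    | smul c z _ h =>
      obtain ⟨y, hy, rfl⟩ := h
      exact ⟨c • y, Submodule.smul_mem _ _ hy, map_smul _ _ _⟩
  obtain ⟨y, hy, hyz⟩ := key _ hw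
  refine ⟨segMk hT Y y, ?_, segMap_eq_of hT Y hf hyz⟩
  change dg (kg X) (kg Y) y ∈ GrSeg.segrePiece k (kg X) (kg Y) n
  rw [dg_of_mem _ _ hy]
  exact hy

end Exact

section Equiv

variable {M N P : Type u} [AddCommGroup M] [Module R M] [Module k M] [IsScalarTower k R M]
  [AddCommGroup N] [Module S N] [Module k N] [IsScalarTower k S N]
  [AddCommGroup P] [Module T P] [Module k P] [IsScalarTower k T P]
  {ℳ : ℤ → AddSubgroup M} [DirectSum.Decomposition ℳ] [SetLike.GradedSMul 𝒜 ℳ]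
  {𝒩 : ℤ → AddSubgroup N} [DirectSum.Decomposition 𝒩] [SetLike.GradedSMul ℬ 𝒩]
  {𝒬 : ℤ → AddSubgroup P} [DirectSum.Decomposition 𝒬]
  {φ : P →ₗ[k] M ⊗[k] N} (hP : GrSeg.IsSegreMod ψ ℳ 𝒩 𝒬 φ)

/-- The map to the model of the Segre product. -/
noncomputable def toSeg : P →ₗ[T] (seg (KMod.of 𝒜 M ℳ) (KMod.of ℬ N 𝒩) hT).carrier where
  toFun p := (⟨toTT (φ p), (mem_segSub (KMod.of 𝒜 M ℳ) (KMod.of ℬ N 𝒩) hT).2 (by
    rw [LinearEquiv.symm_apply_apply]
    exact dg_phi (isSegreMod_kp (𝒜 := 𝒜) (ℬ := ℬ) hP) p)⟩ :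
      segSub (KMod.of 𝒜 M ℳ) (KMod.of ℬ N 𝒩) hT)
  map_add' p q := Subtype.ext (by
    change toTT (φ (p + q)) = toTT (φ p) + toTT (φ q)
    rw [map_add, map_add])
  map_smul' t p := Subtype.ext (by
    change toTT (φ (t • p)) = t • (toTT (φ p) : TT ψ M N)
    rw [hP.map_smul, smul_def, LinearEquiv.symm_apply_apply])

theorem toSeg_val (p : P) :
    toTT.symm (show segSub (KMod.of 𝒜 M ℳ) (KMod.of ℬ N 𝒩) hT from toSeg hT hP p).1 = φ p := rfl

theorem toSeg_mem_iff (p : P) (n : ℤ) :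
    toSeg hT hP p ∈ (seg (KMod.of 𝒜 M ℳ) (KMod.of ℬ N 𝒩) hT).gr n ↔ p ∈ 𝒬 n :=
  (mem_iff_phi_mem (isSegreMod_kp (𝒜 := 𝒜) (ℬ := ℬ) hP) (p := p) (n := n)).symm

theorem toSeg_bijective : Function.Bijective (toSeg hT hP) := by
  constructor
  · intro p q h
    apply hP.injective
    have h1 := congrArg (fun w => toTT.symm (show segSub (KMod.of 𝒜 M ℳ) (KMod.of ℬ N 𝒩) hT from w).1) h
    exact h1
  · intro w
    obtain ⟨p, hp⟩ := (mem_range_phi_iff (isSegreMod_kp (𝒜 := 𝒜) (ℬ := ℬ) hP)).2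
      ((mem_segSub (KMod.of 𝒜 M ℳ) (KMod.of ℬ N 𝒩) hT).1
        (show segSub (KMod.of 𝒜 M ℳ) (KMod.of ℬ N 𝒩) hT from w).2)
    exact ⟨p, segMap_ext hT _ hp⟩

/-- `P ≅ M # N`. -/
noncomputable def segEquiv : P ≃ₗ[T] (seg (KMod.of 𝒜 M ℳ) (KMod.of ℬ N 𝒩) hT).carrier :=
  LinearEquiv.ofBijective (toSeg hT hP) (toSeg_bijective hT hP)

theorem segEquiv_mem_iff (p : P) (n : ℤ) :
    segEquiv hT hP p ∈ (seg (KMod.of 𝒜 M ℳ) (KMod.of ℬ N 𝒩) hT).gr n ↔ p ∈ 𝒬 n :=
  toSeg_mem_iff hT hP p n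

end Equiv

end K963.Fun
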