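import Groth.Agent.GrSegre.K962.Top

/-!
# The Künneth formula in low degrees

`H⁰(M # N)` and `H¹(M # N)` in terms of the augmentations `M → A 0`, `N → B 0`.
-/

set_option autoImplicit false
set_option linter.unusedSectionVars false
set_option linter.style.haveILetI false
set_option warn.classDefReducibility false
universe u
open scoped TensorProduct DirectSum
open K759.Gr K759.GrObj K962.Basic K962.Pieces K962.KM K962.Seg K962.Tot K962.TotK K962.TotTors K962.TotAug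
  K962.Coh K962.Kap K962.Van K962.VanK K962.One K962.Main K962.Wrap K962.KData
open K962

namespace K963.Low

section Z

variable {k : Type u} [Field k] {R S T : Type u} [CommRing R] [Algebra k R] [CommRing S] [Algebra k S]
  [CommRing T] [Algebra k T]
  {𝒜 : ℤ → Submodule k R} [GradedAlgebra 𝒜] {ℬ : ℤ → Submodule k S} [GradedAlgebra ℬ]
  {𝒯 : ℤ → Submodule k T} [GradedAlgebra 𝒯] {ψ : T →ₐ[k] R ⊗[k] S} (hT : GrSeg.IsSegreRing 𝒜 ℬ 𝒯 ψ)
  {κ₁ κ₂ : Type} [Fintype κ₁] [Fintype κ₂] {D : ℤ} {x : κ₁ → R} (hx : ∀ i, x i ∈ 𝒜 D)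
  {y : κ₂ → S} (hy : ∀ i, y i ∈ ℬ D) (X : KMod.{u} 𝒜) (Y : KMod.{u} ℬ) (W : KMod.{u} 𝒯)
  {φ : W.carrier →ₗ[k] X.carrier ⊗[k] Y.carrier} (hP : GrSeg.IsSegreMod ψ (kg X) (kg Y) W.gr φ)

/-- `M → A 0`. -/
noncomputable def eps : X.carrier →ₗ[R] (Ho (Res.d_grHom hx X) 0).carrier :=
  hpi (Res.d_grHom hx X) 0 ∘ₗ εZ hx X

/-- the augmentation as a cocycle -/
noncomputable def augZ (w : W.carrier) :
    LinearMap.ker (dK hT (Res.d hx X) (Res.d hy Y) (Res.d_grHom hx X) (Res.d_grHom hy Y) 0) :=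
  ⟨aug (P := W.carrier) hT hP (Res.ε hx X) (Res.ε hy Y) (Res.ε_grHom hx X) (Res.ε_grHom hy Y) w,
    dt_dt hT hx hy X Y W hP 0 w⟩

theorem kapK_augZ (w : W.carrier) :
    kapK hT (Res.d_grHom hx X) (Res.d_grHom hy Y) (Res.d_d hx X) (Res.d_d hy Y) 0
      (augZ hT hx hy X Y W hP w) 0 0 =
    toTT (TensorProduct.map ((eps hx X).restrictScalars k) ((eps hy Y).restrictScalars k) (φ w)) := by
  let ζ : ZZ ψ (Res.d_grHom hx X) (Res.d_grHom hy Y) := fun p q => match p, q with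
    | 0, 0 => toTT (TensorProduct.map ((εZ hx X).restrictScalars k) ((εZ hy Y).restrictScalars k) (φ w))
    | 0, _ + 1 => 0
    | _ + 1, _ => 0
  have h : (toKer hT (Res.d_grHom hx X) (Res.d_grHom hy Y) 0 (augZ hT hx hy X Y W hP w)).1 =
      zι ψ (Res.d_grHom hx X) (Res.d_grHom hy Y) ζ + DT (Res.d hx X) (Res.d hy Y) 0 := by
    rw [map_zero, add_zero]
    funext p q
    match p, q with
    | 0, 0 =>
      show aug0 (ψ := ψ) φ (Res.ε hx X) (Res.ε hy Y) w = mapTT (zsub (Res.d_grHom hx X) 0) (zsub (Res.d_grHom hy Y) 0)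
        (toTT (TensorProduct.map ((εZ hx X).restrictScalars k) ((εZ hy Y).restrictScalars k) (φ w)))
      rw [mapTT_toTT, ← LinearMap.comp_apply (f := TensorProduct.map _ _), ← TensorProduct.map_comp]
      rfl
    | 0, q + 1 => exact (map_zero (mapTT (ψ := ψ) (zsub (Res.d_grHom hx X) 0) (zsub (Res.d_grHom hy Y) (q + 1)))).symm
    | p + 1, q => exact (map_zero (mapTT (ψ := ψ) (zsub (Res.d_grHom hx X) (p + 1)) (zsub (Res.d_grHom hy Y) q))).symm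
  have h2 := kap_eq (Res.d_grHom hx X) (Res.d_grHom hy Y) (Res.d_d hx X) (Res.d_d hy Y) h
  refine (congrFun (congrFun h2 0) 0).trans ?_
  show mapTT (hpi (Res.d_grHom hx X) 0) (hpi (Res.d_grHom hy Y) 0)
    (toTT (TensorProduct.map ((εZ hx X).restrictScalars k) ((εZ hy Y).restrictScalars k) (φ w))) = _
  rw [mapTT_toTT, ← LinearMap.comp_apply (f := TensorProduct.map _ _), ← TensorProduct.map_comp]
  rfl

variable [IsNoetherianRing R] [IsNoetherianRing S] [IsNoetherianRing T]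
  {aR : HomogeneousIdeal 𝒜} {aS : HomogeneousIdeal ℬ} {aT : HomogeneousIdeal 𝒯}
  (haxR : aR.toIdeal ≤ (Ideal.span (Set.range x)).radical)
  (haxS : aS.toIdeal ≤ (Ideal.span (Set.range y)).radical)
  (hψ : ∀ t ∈ aT.toIdeal, ψ t ∈ (ps aR.toIdeal aS.toIdeal : Submodule k (R ⊗[k] S)))
  (haT : ∀ t ∈ 𝒯 D, t ∈ aT.toIdeal)
include hT haxR haxS hψ haT hP

theorem low_zero (E : GrLC.StarInjRes 𝒯 W.gr) : Subsingleton (E.H aT 0) ↔
    ∀ w : W.carrier, TensorProduct.map ((eps hx X).restrictScalars k) ((eps hy Y).restrictScalars k) (φ w) = 0 →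
      w = 0 := by
  obtain ⟨θ, -⟩ := (compT hT hx hy X Y W hP haxR haxS hψ haT E).1
  have h00 : ∀ w, TensorProduct.map ((eps hx X).restrictScalars k) ((eps hy Y).restrictScalars k) (φ w) = 0 ↔
      aug (P := W.carrier) hT hP (Res.ε hx X) (Res.ε hy Y) (Res.ε_grHom hx X) (Res.ε_grHom hy Y) w = 0 := by
    intro w
    have h1 := kapK_augZ hT hx hy X Y W hP w
    constructor
    · intro h
      rw [h, map_zero] at h1
      have h2 : kapK hT (Res.d_grHom hx X) (Res.d_grHom hy Y) (Res.d_d hx X) (Res.d_d hy Y) 0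
          (augZ hT hx hy X Y W hP w) = 0 := by
        funext p q
        by_cases hpq : p + q = 0
        · obtain ⟨rfl, rfl⟩ : p = 0 ∧ q = 0 := by omega
          exact h1
        · exact kapK_ne hT _ _ _ _ _ hpq
      have h3 := (kapK_zero_eq_zero_iff hT _ _ _ _ _).1 h2
      exact congrArg Subtype.val h3
    · intro h
      have h2 : augZ hT hx hy X Y W hP w = 0 := Subtype.ext h
      rw [h2, map_zero] at h1
      exact toTT.injective (h1.symm.trans (map_zero _).symm)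
  constructor
  · intro hs w hw
    have hw' := (h00 w).1 hw
    have : (⟨w, hw'⟩ : LinearMap.ker (aug (P := W.carrier) hT hP (Res.ε hx X) (Res.ε hy Y) (Res.ε_grHom hx X)
      (Res.ε_grHom hy Y))) = 0 := θ.injective (Subsingleton.elim _ _)
    exact congrArg Subtype.val this
  · intro h
    refine ⟨fun a b => ?_⟩
    obtain ⟨a, rfl⟩ := θ.surjective a
    obtain ⟨b, rfl⟩ := θ.surjective b
    have ha : a = 0 := Subtype.ext (h a.1 ((h00 _).2 a.2))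
    have hb : b = 0 := Subtype.ext (h b.1 ((h00 _).2 b.2))
    rw [ha, hb]

theorem low_one (E : GrLC.StarInjRes 𝒯 W.gr) (g : ℤ) : E.Hcomp aT 1 g = ⊥ ↔
    ∀ ω ∈ GrSeg.segrePiece k (kg (Ho (Res.d_grHom hx X) 0)) (kg (Ho (Res.d_grHom hy Y) 0)) g,
      ∃ w : W.carrier, TensorProduct.map ((eps hx X).restrictScalars k) ((eps hy Y).restrictScalars k) (φ w) = ω := by
  obtain ⟨θ, hs, hk, hg, hl⟩ := (compT hT hx hy X Y W hP haxR haxS hψ haT E).2.1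
  constructor
  · intro h ω hω
    let ω' : HH ψ (Res.d_grHom hx X) (Res.d_grHom hy Y) := fun p q => match p, q with
      | 0, 0 => toTT ω
      | 0, _ + 1 => 0
      | _ + 1, _ => 0
    obtain ⟨z, hz, hze⟩ := exists_kapK_eq hT (Res.d_grHom hx X) (Res.d_grHom hy Y) (Res.d_d hx X)
      (Res.d_d hy Y) (n := 0) (i := g) (ω := ω') (fun p q hpq => by
        match p, q with
        | 0, 0 => exact absurd rfl hpq
        | 0, q + 1 => rfl
        | p + 1, q => rfl) (fun p q => by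
        match p, q with
        | 0, 0 => exact hω
        | 0, q + 1 => exact (congrArg (· ∈ _) (map_zero toTT.symm)).mpr (zero_mem _)
        | p + 1, q => exact (congrArg (· ∈ _) (map_zero toTT.symm)).mpr (zero_mem _))
    have h1 : θ z ∈ E.Hcomp aT 1 g := hg z g hz
    rw [h, Submodule.mem_bot, hk] at h1
    obtain ⟨w, hw⟩ := h1
    refine ⟨w, ?_⟩
    have h2 : augZ hT hx hy X Y W hP w = z := Subtype.ext hw
    have h3 := kapK_augZ hT hx hy X Y W hP w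
    rw [h2, hze] at h3
    exact toTT.injective h3.symm
  · intro h
    rw [eq_bot_iff]
    intro u hu
    rw [Submodule.mem_bot]
    obtain ⟨z, hz, rfl⟩ := hl g u hu
    have h1 := kapK_mem hT (Res.d_grHom hx X) (Res.d_grHom hy Y) (Res.d_d hx X) (Res.d_d hy Y) z hz 0 0
    obtain ⟨w, hw⟩ := h _ h1
    rw [hk]
    refine ⟨w, ?_⟩
    have h3 := kapK_augZ hT hx hy X Y W hP w
    rw [hw, LinearEquiv.apply_symm_apply] at h3
    have h5 : Function.Injective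
        (kapK hT (Res.d_grHom hx X) (Res.d_grHom hy Y) (Res.d_d hx X) (Res.d_d hy Y) 0) :=
      (injective_iff_map_eq_zero _).2 fun z hz => (kapK_zero_eq_zero_iff hT _ _ _ _ _).1 hz
    have h4 : augZ hT hx hy X Y W hP w = z := by
      apply h5
      funext p q
      by_cases hpq : p + q = 0
      · obtain ⟨rfl, rfl⟩ : p = 0 ∧ q = 0 := by omega
        exact h3
      · rw [kapK_ne hT _ _ _ _ _ hpq, kapK_ne hT _ _ _ _ _ hpq]
    exact congrArg Subtype.val h4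

end Z

variable {k : Type u} [Field k] {R S T : Type u} [CommRing R] [Algebra k R] [CommRing S] [Algebra k S]
  [CommRing T] [Algebra k T]
  {𝒜 : ℤ → Submodule k R} [GradedAlgebra 𝒜] {ℬ : ℤ → Submodule k S} [GradedAlgebra ℬ]
  {𝒯 : ℤ → Submodule k T} [GradedAlgebra 𝒯] {ψ : T →ₐ[k] R ⊗[k] S}
  {mR : HomogeneousIdeal 𝒜} {mS : HomogeneousIdeal ℬ} {mT : HomogeneousIdeal 𝒯}
  {M N P : Type u} [AddCommGroup M] [Module R M] [Module k M] [IsScalarTower k R M]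
  [AddCommGroup N] [Module S N] [Module k N] [IsScalarTower k S N]
  [AddCommGroup P] [Module T P] [Module k P] [IsScalarTower k T P]
  {τM τN τQ : Type u} [SetLike τM M] [AddSubgroupClass τM M] [SetLike τN N] [AddSubgroupClass τN N]
  [SetLike τQ P] [AddSubgroupClass τQ P]
  {ℳ : ℤ → τM} [DirectSum.Decomposition ℳ] [SetLike.GradedSMul 𝒜 ℳ]
  {𝒩 : ℤ → τN} [DirectSum.Decomposition 𝒩] [SetLike.GradedSMul ℬ 𝒩]
  {𝒬 : ℤ → τQ} [DirectSum.Decomposition 𝒬] [SetLike.GradedSMul 𝒯 𝒬]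

/-- One side of the Künneth data with the augmentation `ε : M → A 0` named. -/
structure Side0 (EM : GrLC.StarInjRes 𝒜 ℳ) (mR : HomogeneousIdeal 𝒜) (A : ℕ → KMod.{u} 𝒜)
    (ε : M →ₗ[R] (A 0).carrier) : Prop where
  succ : ∀ p, ∃ θ : (A (p + 1)).carrier ≃ₗ[R] EM.H mR (p + 2), ∀ y g, y ∈ (A (p + 1)).gr g ↔
    θ y ∈ EM.Hcomp mR (p + 2) g
  gr : GrLC.IsGrHom ℳ (A 0).gr ε
  ker : ∀ m, ε m = 0 ↔ m ∈ GrLC.gam mR.toIdeal M
  delta : ∃ δ : (A 0).carrier →ₗ[R] EM.H mR 1, Function.Surjective δ ∧ (∀ z, δ z = 0 ↔ ∃ m, ε m = z) ∧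
      (∀ z g, z ∈ (A 0).gr g → δ z ∈ EM.Hcomp mR 1 g) ∧
      (∀ g, ∀ y ∈ EM.Hcomp mR 1 g, ∃ z ∈ (A 0).gr g, δ z = y)

theorem side0 {D : ℤ} {n : ℕ} {x : Fin n → R} (hx : ∀ i, x i ∈ 𝒜 D) (hxa : ∀ i, x i ∈ mR.toIdeal)
    (hrx : mR.toIdeal ≤ (Ideal.span (Set.range x)).radical) [IsNoetherianRing R]
    (EM : GrLC.StarInjRes 𝒜 ℳ) :
    Side0 EM mR (fun p => Ho (Res.d_grHom hx (kmod 𝒜 ℳ)) p) (eps hx (kmod 𝒜 ℳ)) := by
  obtain ⟨E'⟩ := K963.Iface.nonempty_res 𝒜 (kmod 𝒜 ℳ).gr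
  obtain ⟨hz, θ, hs, hk, hg, hl⟩ := Ho_zero hx (kmod 𝒜 ℳ) hxa hrx E'
  obtain ⟨θ', hθ'⟩ := transfer EM E' mR 1
  have hpz : Function.Injective (hpi (Res.d_grHom hx (kmod 𝒜 ℳ)) 0) := by
    rw [injective_iff_map_eq_zero]
    intro z hz
    exact (hpi_zero_eq_zero_iff (Res.d_grHom hx (kmod 𝒜 ℳ))).1 hz
  let e := LinearEquiv.ofBijective (hpi (Res.d_grHom hx (kmod 𝒜 ℳ)) 0) ⟨hpz, hpi_surjective _ 0⟩
  have heg : ∀ z g, z ∈ (Zo (Res.d_grHom hx (kmod 𝒜 ℳ)) 0).gr g ↔ e z ∈ (Ho (Res.d_grHom hx (kmod 𝒜 ℳ)) 0).gr g :=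
    fun z g => ⟨fun h => hpi_grHom _ 0 g z h, fun h => mem_of_map_mem (hpi_grHom _ 0) hpz h⟩
  refine ⟨(side hx hxa hrx EM).succ, ?_, ?_, θ'.symm.toLinearMap ∘ₗ θ ∘ₗ e.symm.toLinearMap, ?_, ?_, ?_, ?_⟩
  · exact fun g m hm => hpi_grHom _ 0 g _ (εZ_grHom hx (kmod 𝒜 ℳ) hxa hrx g m hm)
  · intro m
    refine Iff.trans ?_ (hz m)
    exact ⟨fun h => hpz (h.trans (map_zero _).symm),
      fun h => (congrArg (hpi (Res.d_grHom hx (kmod 𝒜 ℳ)) 0) h).trans (map_zero _)⟩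
  · exact θ'.symm.surjective.comp (hs.comp e.symm.surjective)
  · intro z
    obtain ⟨z, rfl⟩ := e.surjective z
    rw [LinearMap.comp_apply, LinearMap.comp_apply, LinearEquiv.coe_coe, LinearEquiv.coe_coe,
      LinearEquiv.symm_apply_apply, LinearEquiv.map_eq_zero_iff, hk]
    refine exists_congr fun m => ?_
    exact ⟨fun h => congrArg e h, fun h => e.injective h⟩
  · intro z g hz
    obtain ⟨z, rfl⟩ := e.surjective z
    rw [LinearMap.comp_apply, LinearMap.comp_apply, LinearEquiv.coe_coe, LinearEquiv.coe_coe,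
      LinearEquiv.symm_apply_apply]
    have := hg z g ((heg z g).2 hz)
    rw [← θ'.apply_symm_apply (θ z), ← hθ'] at this
    exact this
  · intro g y hy
    obtain ⟨z, hz, hze⟩ := hl g (θ' y) ((hθ' y g).1 hy)
    refine ⟨e z, (heg z g).1 hz, ?_⟩
    rw [LinearMap.comp_apply, LinearMap.comp_apply, LinearEquiv.coe_coe, LinearEquiv.coe_coe,
      LinearEquiv.symm_apply_apply, hze, LinearEquiv.symm_apply_apply]

variable [Algebra.FiniteType k R] [Algebra.FiniteType k S]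

/-- **The Künneth formula**, including degrees `0` and `1`. -/
theorem kunneth0 (hT : GrSeg.IsSegreRing 𝒜 ℬ 𝒯 ψ)
    (hmR : mR.toIdeal = Ideal.span (⋃ n ∈ Set.Ioi (0 : ℤ), (𝒜 n : Set R)))
    (hmS : mS.toIdeal = Ideal.span (⋃ n ∈ Set.Ioi (0 : ℤ), (ℬ n : Set S)))
    (hmT : mT.toIdeal = Ideal.span (⋃ n ∈ Set.Ioi (0 : ℤ), (𝒯 n : Set T)))
    {φ : P →ₗ[k] M ⊗[k] N} (hP : GrSeg.IsSegreMod ψ ℳ 𝒩 𝒬 φ)
    (EM : GrLC.StarInjRes 𝒜 ℳ) (EN : GrLC.StarInjRes ℬ 𝒩) (EP : GrLC.StarInjRes 𝒯 𝒬) :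
    ∃ (A : ℕ → KMod.{u} 𝒜) (B : ℕ → KMod.{u} ℬ) (ε : M →ₗ[R] (A 0).carrier) (η : N →ₗ[S] (B 0).carrier),
      Side0 EM mR A ε ∧ Side0 EN mS B η ∧
      (Subsingleton (EP.H mT 0) ↔ ∀ w : P, TensorProduct.map (ε.restrictScalars k) (η.restrictScalars k) (φ w) = 0 →
        w = 0) ∧
      (∀ g, EP.Hcomp mT 1 g = ⊥ ↔ ∀ ω ∈ GrSeg.segrePiece k (kg (A 0)) (kg (B 0)) g,
        ∃ w : P, TensorProduct.map (ε.restrictScalars k) (η.restrictScalars k) (φ w) = ω) ∧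
      ∀ n, ∃ κ : EP.H mT (n + 2) →ₗ[T] (∀ p q : ℕ, TT ψ (A p).carrier (B q).carrier), Function.Injective κ ∧
      (∀ z p q, p + q ≠ n + 1 → κ z p q = 0) ∧
      (∀ z i, z ∈ EP.Hcomp mT (n + 2) i → ∀ p q, toTT.symm (κ z p q) ∈
        GrSeg.segrePiece k (kg (A p)) (kg (B q)) i) ∧
      (∀ i (ω : ∀ p q : ℕ, TT ψ (A p).carrier (B q).carrier), (∀ p q, p + q ≠ n + 1 → ω p q = 0) →
        (∀ p q, toTT.symm (ω p q) ∈ GrSeg.segrePiece k (kg (A p)) (kg (B q)) i) →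
        ∃ z ∈ EP.Hcomp mT (n + 2) i, κ z = ω) := by
  have hNR : IsNoetherianRing R := Algebra.FiniteType.isNoetherianRing k R
  have hNS : IsNoetherianRing S := Algebra.FiniteType.isNoetherianRing k S
  have hNT : IsNoetherianRing T := isNoetherianRing_segreRing hT
  obtain ⟨p⟩ := exists_par (ψ := ψ) hT hmR hmS hmT
  obtain ⟨E'⟩ := K963.Iface.nonempty_res 𝒯 (kmod 𝒯 𝒬).gr
  have hP' : GrSeg.IsSegreMod ψ (kg (kmod 𝒜 ℳ)) (kg (kmod ℬ 𝒩)) (kmod 𝒯 𝒬).gr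
      (show (kmod 𝒯 𝒬).carrier →ₗ[k] (kmod 𝒜 ℳ).carrier ⊗[k] (kmod ℬ 𝒩).carrier from φ) :=
    ⟨hP.injective, hP.image_piece, hP.map_smul⟩
  refine ⟨_, _, _, _, side0 p.hx p.hxa p.hrx EM, side0 p.hy p.hya p.hry EN, ?_, fun g => ?_, fun n => ?_⟩
  · obtain ⟨θ, hθ⟩ := transfer EP E' mT 0
    rw [θ.toEquiv.subsingleton_congr]
    exact low_zero hT p.hx p.hy (kmod 𝒜 ℳ) (kmod ℬ 𝒩) (kmod 𝒯 𝒬) hP' p.hrx p.hry p.hψ p.haT E'
  · obtain ⟨θ, hθ⟩ := transfer EP E' mT 1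
    have h1 : EP.Hcomp mT 1 g = ⊥ ↔ E'.Hcomp mT 1 g = ⊥ := by
      rw [Submodule.eq_bot_iff, Submodule.eq_bot_iff]
      constructor
      · intro h y hy
        obtain ⟨y, rfl⟩ := θ.surjective y
        rw [h y ((hθ y g).2 hy), map_zero]
      · intro h y hy
        exact θ.injective ((h _ ((hθ y g).1 hy)).trans (map_zero θ).symm)
    rw [h1]
    exact low_one hT p.hx p.hy (kmod 𝒜 ℳ) (kmod ℬ 𝒩) (kmod 𝒯 𝒬) hP' p.hrx p.hry p.hψ p.haT E' g
  · obtain ⟨κ, h1, h2, h3, h4⟩ := K962.Main.kunneth hT p.hx p.hy (kmod 𝒜 ℳ) (kmod ℬ 𝒩) (kmod 𝒯 𝒬) hP' p.hrx p.hry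
      p.hψ p.haT E' n
    obtain ⟨θ, hθ⟩ := transfer EP E' mT (n + 2)
    refine ⟨κ ∘ₗ θ.toLinearMap, h1.comp θ.injective, fun z p q hpq => h2 _ p q hpq,
      fun z i hz p q => h3 _ i ((hθ z i).1 hz) p q, fun i ω hω hω' => ?_⟩
    obtain ⟨z, hz, rfl⟩ := h4 i ω hω hω'
    refine ⟨θ.symm z, (hθ _ i).2 (by rwa [LinearEquiv.apply_symm_apply]), ?_⟩
    rw [LinearMap.comp_apply, LinearEquiv.coe_coe, LinearEquiv.apply_symm_apply]

end K963.Low
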