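import Groth.Agent.GrSegre.K963.Crit2
import Groth.Agent.GrSegre.K963.PolyLC
import Groth.Agent.GrSegre.K961.SegDim2

/-!
# Segre products of shifted polynomial rings: basic facts
-/

set_option autoImplicit false
set_option linter.unusedSectionVars false
set_option linter.style.haveILetI false
universe u
open scoped TensorProduct DirectSum
attribute [local instance] MvPolynomial.weightedGradedAlgebra
open K963.PolyLC K962.Dims K962.Pieces

namespace K963.PolySeg

variable {k : Type u} [Field k] {r s : ℕ} {T : Type u} [CommRing T] [Algebra k T] {𝒯 : ℤ → Submodule k T}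
  [GradedAlgebra 𝒯] {ψ : T →ₐ[k] TensorProduct k (MvPolynomial (Fin r) k) (MvPolynomial (Fin s) k)}
  {a b : ℤ} {P : Type u} [AddCommGroup P] [Module T P] [Module k P] [IsScalarTower k T P]
  {𝒬 : ℤ → AddSubgroup P} [DirectSum.Decomposition 𝒬]
  {φ : P →ₗ[k] TensorProduct k (MvPolynomial (Fin r) k) (MvPolynomial (Fin s) k)}

theorem nontrivial_T (ψ : T →ₐ[k] TensorProduct k (MvPolynomial (Fin r) k) (MvPolynomial (Fin s) k)) : Nontrivial T := by
  refine ⟨⟨0, 1, fun h => ?_⟩⟩
  have h1 : (0 : MvPolynomial (Fin r) k ⊗[k] MvPolynomial (Fin s) k) = 1 := by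
    rw [← map_zero ψ, h, map_one]
  exact zero_ne_one h1

theorem nontrivial_P (hr : 0 < r) (hs : 0 < s)
    (hP : GrSeg.IsSegreMod ψ (sh (std k r) a) (sh (std k s) b) 𝒬 φ) : Nontrivial P := by
  obtain ⟨p, hp, hp0⟩ := exists_ne_zero (k := k) hr (d := max (-a) (-b) + a) (by have := le_max_left (-a) (-b); omega)
  obtain ⟨q, hq, hq0⟩ := exists_ne_zero (k := k) hs (d := max (-a) (-b) + b) (by have := le_max_right (-a) (-b); omega)
  obtain ⟨w, -, hw⟩ := exists_phi_eq hP (n := max (-a) (-b)) (w := p ⊗ₜ q) (Submodule.subset_span ⟨p, hp, q, hq, rfl⟩)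
  refine ⟨⟨w, 0, fun h => ?_⟩⟩
  rw [h, map_zero] at hw
  exact tmul_ne_zero hp0 hq0 hw.symm

theorem supportDim (hr : 0 < r) (hs : 0 < s) (hT : GrSeg.IsSegreRing (std k r) (std k s) 𝒯 ψ)
    (hP : GrSeg.IsSegreMod ψ (sh (std k r) a) (sh (std k s) b) 𝒬 φ) :
    Module.supportDim T P = ((r + s - 1 : ℕ) : WithBot ℕ∞) := by
  haveI : SetLike.GradedSMul 𝒯 𝒬 := gradedSMul hT hP
  obtain ⟨r, rfl⟩ : ∃ r', r = r' + 1 := ⟨r - 1, by omega⟩
  obtain ⟨s, rfl⟩ : ∃ s', s = s' + 1 := ⟨s - 1, by omega⟩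
  obtain ⟨p, hp, hp0⟩ := exists_ne_zero (k := k) hr (d := max (-a) (-b) + a) (by have := le_max_left (-a) (-b); omega)
  obtain ⟨q, hq, hq0⟩ := exists_ne_zero (k := k) hs (d := max (-a) (-b) + b) (by have := le_max_right (-a) (-b); omega)
  have h1 : K961.Irr.irr (std k (r + 1)) ≤ (Module.annihilator (MvPolynomial (Fin (r + 1)) k)
      (MvPolynomial (Fin (r + 1)) k) ⊔ Ideal.span (Set.range (MvPolynomial.X))).radical := by
    refine le_trans (le_of_eq irr_eq_span) (le_trans le_sup_right Ideal.le_radical)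
  have h2 : K961.Irr.irr (std k (s + 1)) ≤ (Module.annihilator (MvPolynomial (Fin (s + 1)) k)
      (MvPolynomial (Fin (s + 1)) k) ⊔ Ideal.span (Set.range (MvPolynomial.X))).radical := by
    refine le_trans (le_of_eq irr_eq_span) (le_trans le_sup_right Ideal.le_radical)
  have hP' : GrSeg.IsSegreMod ψ (sh (std k (r + 1)) a) (sh (std k (s + 1)) b) (kp 𝒯 𝒬) φ :=
    ⟨hP.injective, hP.image_piece, hP.map_smul⟩
  have h := K961.SegDim2.supportDim_eq hT hP' (fun _ hn => std_neg hn) std_zero (fun _ hn => std_neg hn) std_zero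
    (D := 1) one_pos
    (fun i => (MvPolynomial.X i : MvPolynomial (Fin (r + 1)) k)) (fun i => X_mem i) h1
    (fun i => (MvPolynomial.X i : MvPolynomial (Fin (s + 1)) k)) (fun i => X_mem i) h2
    (d := max (-a) (-b)) (m := p) hp (fun F hF => by
      have h3 : MvPolynomial.aeval (fun i => (MvPolynomial.X i : MvPolynomial (Fin (r + 1)) k)) F = F :=
        MvPolynomial.aeval_X_left_apply F
      rw [h3, smul_eq_mul] at hF
      exact (mul_eq_zero.1 hF).resolve_right hp0) (n := q) hq (fun F hF => by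
      have h3 : MvPolynomial.aeval (fun i => (MvPolynomial.X i : MvPolynomial (Fin (s + 1)) k)) F = F :=
        MvPolynomial.aeval_X_left_apply F
      rw [h3, smul_eq_mul] at hF
      exact (mul_eq_zero.1 hF).resolve_right hq0)
  rw [h, show r + 1 + (s + 1) - 1 = r + s + 1 by omega]

theorem sh_iff (hr : 0 < r) (d : ℤ) : (∀ m ∈ sh (std k r) a d, m = 0) ↔ d + a < 0 := by
  rw [← std_eq_bot_iff (k := k) hr, Submodule.eq_bot_iff]; rfl

end K963.PolySeg
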